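import Cfsg.Agent.PronormalPSL.Generic
import Cfsg.Agent.FlagChar.DoubleCosets
import Mathlib

/-!
# Odd index subgroups of `SL_n(2^a)`

They are normalised by the torus after conjugating them to contain the unitriangular group.
-/

set_option autoImplicit false
set_option linter.unusedSectionVars false

namespace CfsgLib.PronormalPSL.EvenChar

open Matrix CfsgLib.FlagChar CfsgLib.PronormalPSL
open scoped MatrixGroups

variable {n : ℕ} {F : Type*} [Field F]

theorem mem_upper {g : GL (Fin n) F} :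
    g ∈ Cfsg.upperTriangularGL n F ↔ (g : Matrix (Fin n) (Fin n) F).BlockTriangular id := Iff.rfl

theorem diag_mul {M N : Matrix (Fin n) (Fin n) F} (hM : M.BlockTriangular id)
    (hN : N.BlockTriangular id) (i : Fin n) : (M * N) i i = M i i * N i i := by
  rw [Matrix.mul_apply, Finset.sum_eq_single i]
  · intro x _ hx
    rcases lt_or_gt_of_ne hx with h | h
    · rw [hM h, zero_mul]
    · rw [hN h, mul_zero]
  · simp

theorem diag_inv {g : GL (Fin n) F} (hg : g ∈ Cfsg.upperTriangularGL n F) (i : Fin n) :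
    g.1 i i * (g⁻¹ : GL (Fin n) F).1 i i = 1 := by
  rw [← diag_mul hg (inv_mem hg : g⁻¹ ∈ _), ← Units.val_mul, mul_inv_cancel, Units.val_one,
    Matrix.one_apply_eq]

/-- The unitriangular group. -/
def U (n : ℕ) (F : Type*) [Field F] : Subgroup (GL (Fin n) F) where
  carrier := {g | g ∈ Cfsg.upperTriangularGL n F ∧ ∀ i, g.1 i i = 1}
  one_mem' := ⟨one_mem _, fun i => by simp⟩
  mul_mem' := fun {a b} ha hb => ⟨mul_mem ha.1 hb.1, fun i => by
    rw [Units.val_mul, diag_mul ha.1 hb.1, ha.2 i, hb.2 i, one_mul]⟩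
  inv_mem' := fun {a} ha => ⟨inv_mem ha.1, fun i => by
    have := diag_inv ha.1 i
    rwa [ha.2 i, one_mul] at this⟩

theorem mem_U {g : GL (Fin n) F} :
    g ∈ U n F ↔ g ∈ Cfsg.upperTriangularGL n F ∧ ∀ i, g.1 i i = 1 := Iff.rfl

theorem upper_conj_mem {b g : GL (Fin n) F} (hb : b ∈ Cfsg.upperTriangularGL n F) (hg : g ∈ U n F) :
    b * g * b⁻¹ ∈ U n F := by
  refine ⟨mul_mem (mul_mem hb hg.1) (inv_mem hb), fun i => ?_⟩
  rw [Units.val_mul, diag_mul (mul_mem hb hg.1 : b * g ∈ _) (inv_mem hb : b⁻¹ ∈ _), Units.val_mul,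
    diag_mul hb hg.1, hg.2 i, mul_one, diag_inv hb]

/-- An element of `GL` carrying the unitriangular group into itself is upper triangular. -/
theorem upper_of_conj {g : GL (Fin n) F} (h : ∀ x ∈ U n F, g * x * g⁻¹ ∈ U n F) :
    g ∈ Cfsg.upperTriangularGL n F := by
  obtain ⟨b, hb, b', hb', σ, rfl⟩ := exists_bruhat g
  have hσ : ∀ x ∈ U n F, permGL n F σ * x * (permGL n F σ)⁻¹ ∈ U n F := by
    intro x hx
    have h' := h _ (upper_conj_mem (inv_mem hb') hx)
    have h'' := upper_conj_mem (inv_mem hb) h'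
    convert h'' using 1
    group
  have hmono : StrictMono σ := by
    intro i j hij
    let T : GL (Fin n) F := Matrix.SpecialLinearGroup.toGL
      (Matrix.SpecialLinearGroup.transvection hij.ne 1)
    have hT : T.1 = Matrix.transvection i j 1 := by
      simp [T, Matrix.SpecialLinearGroup.transvection_coe, Matrix.transvection]
    have hTU : T ∈ U n F := by
      refine ⟨fun a b hab => ?_, fun a => ?_⟩
      · simp only [id] at hab
        rw [hT, Matrix.transvection, Matrix.add_apply, Matrix.one_apply_ne hab.ne',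
          Matrix.single_apply, if_neg (fun e => by omega), add_zero]
      · rw [hT, Matrix.transvection, Matrix.add_apply, Matrix.one_apply_eq,
          Matrix.single_apply, if_neg (fun e => hij.ne (e.1.trans e.2.symm)), add_zero]
    have hmem := (hσ T hTU).1
    by_contra hlt
    have hne : σ i ≠ σ j := fun e => hij.ne (σ.injective e)
    have h0 := hmem (show id (σ j) < id (σ i) from lt_of_le_of_ne (not_lt.1 hlt) hne.symm)
    set M := permGL n F σ * T * (permGL n F σ)⁻¹ with hM
    have h1 : (M.1 * (permGL n F σ).1) (σ i) j = ((permGL n F σ).1 * T.1) (σ i) j := by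
      rw [← Units.val_mul, ← Units.val_mul, hM, inv_mul_cancel_right]
    rw [Matrix.mul_apply, Matrix.mul_apply,
      Finset.sum_eq_single (σ j) (fun x _ hx => by rw [permGL_apply, if_neg hx, mul_zero]) (by simp),
      Finset.sum_eq_single i (fun x _ hx => by
        rw [permGL_apply, if_neg (fun e => hx (σ.injective e).symm), zero_mul]) (by simp),
      h0, zero_mul, permGL_apply, if_pos rfl, one_mul, hT] at h1
    simp [Matrix.transvection, hij.ne] at h1
  have : σ = 1 := Equiv.ext fun i => congrFun hmono.eq_id i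
  rw [this, map_one, mul_one]
  exact mul_mem hb hb'

theorem isPGroup_U [CharP F 2] : ∀ g ∈ U n F, ∃ k : ℕ, g ^ 2 ^ k = 1 := by
  intro g hg
  refine ⟨n, Units.ext ?_⟩
  rcases n with _ | m
  · exact Subsingleton.elim _ _
  have hc : Matrix.aeval_self_charpoly g.1 = Matrix.aeval_self_charpoly g.1 := rfl
  have h0 := Matrix.aeval_self_charpoly g.1
  rw [Matrix.charpoly_of_isUpperTriangular _ hg.1] at h0
  simp only [hg.2, map_one, Finset.prod_const, Finset.card_univ, Fintype.card_fin, map_pow, map_sub,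
    Polynomial.aeval_X] at h0
  haveI : Fact (Nat.Prime 2) := ⟨Nat.prime_two⟩
  have hp : (g.1 - 1) ^ 2 ^ (m + 1) = 0 :=
    pow_eq_zero_of_le (Nat.lt_two_pow_self).le h0
  rw [sub_pow_char_pow_of_commute (p := 2) (n := m + 1) (Commute.one_right _), one_pow, sub_eq_zero] at hp
  rw [Units.val_pow_eq_pow_val, hp, Units.val_one]

/-- The unitriangular group of `SL_n`. -/
def Us (n : ℕ) (F : Type*) [Field F] : Subgroup SL(n, F) :=
  (U n F).comap Matrix.SpecialLinearGroup.toGL

theorem det_of_mem_U {g : GL (Fin n) F} (hg : g ∈ U n F) : g.1.det = 1 := by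
  rw [Matrix.det_of_isUpperTriangular hg.1]
  exact Finset.prod_eq_one fun i _ => hg.2 i

theorem exists_toGL {g : GL (Fin n) F} (hg : g.1.det = 1) :
    ∃ a : SL(n, F), Matrix.SpecialLinearGroup.toGL a = g :=
  ⟨⟨g.1, hg⟩, Units.ext rfl⟩

theorem upper_of_conj_Us {a : SL(n, F)} (h : ∀ x ∈ Us n F, a * x * a⁻¹ ∈ Us n F) :
    Matrix.SpecialLinearGroup.toGL a ∈ Cfsg.upperTriangularGL n F := by
  refine upper_of_conj fun x hx => ?_
  obtain ⟨x, rfl⟩ := exists_toGL (det_of_mem_U hx)
  rw [← map_inv, ← map_mul, ← map_mul]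
  exact h x hx

variable [Fintype F]

theorem exists_sylow [CharP F 2] :
    ∃ S : Sylow 2 SL(n, F), (S : Subgroup SL(n, F)) = Us n F := by
  haveI : Fact (Nat.Prime 2) := ⟨Nat.prime_two⟩
  refine exists_sylow_of_normalizer ?_ fun g hg ⟨k, hk⟩ => ?_
  · rintro ⟨g, hg⟩
    obtain ⟨k, hk⟩ := isPGroup_U _ hg
    refine ⟨k, Subtype.ext ?_⟩
    apply Matrix.SpecialLinearGroup.toGL_injective
    simpa using hk
  · have hup := upper_of_conj_Us fun x hx => (Subgroup.mem_normalizer_iff.1 hg x).1 hx
    refine ⟨hup, fun i => ?_⟩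
    have hpow : ∀ m : ℕ, ((Matrix.SpecialLinearGroup.toGL g) ^ m).1 i i =
        ((Matrix.SpecialLinearGroup.toGL g).1 i i) ^ m := by
      intro m
      induction m with
      | zero => simp
      | succ l ih => rw [pow_succ, Units.val_mul, diag_mul (pow_mem hup l :) hup, ih, pow_succ]
    have h1 := hpow (2 ^ k)
    rw [← map_pow, hk, map_one, Units.val_one, Matrix.one_apply_eq] at h1
    have h2 : ((Matrix.SpecialLinearGroup.toGL g).1 i i - 1) ^ 2 ^ k = 0 := by
      rw [sub_pow_char_pow, one_pow, ← h1, sub_self]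
    exact sub_eq_zero.1 (eq_zero_of_pow_eq_zero h2)

/-- An upper triangular element of `SL` is unitriangular times diagonal. -/
theorem upper_split (a : SL(n, F)) (ha : Matrix.SpecialLinearGroup.toGL a ∈ Cfsg.upperTriangularGL n F) :
    ∃ u ∈ Us n F, ∃ d : SL(n, F), a = u * d ∧ ∀ i j, i ≠ j → d.1 i j = 0 := by
  classical
  have hdet : (Matrix.diagonal fun i => a.1 i i).det = 1 := by
    rw [Matrix.det_diagonal, ← Matrix.det_of_isUpperTriangular (M := a.1) ha, a.2]
  set d : SL(n, F) := ⟨Matrix.diagonal fun i => a.1 i i, hdet⟩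
  refine ⟨a * d⁻¹, ?_, d, by group, fun i j h => Matrix.diagonal_apply_ne _ h⟩
  have hd : Matrix.SpecialLinearGroup.toGL d ∈ Cfsg.upperTriangularGL n F :=
    blockTriangular_diagonal _
  rw [Us, Subgroup.mem_comap, map_mul, map_inv]
  refine ⟨mul_mem ha (inv_mem hd), fun i => ?_⟩
  have h := diag_inv hd i
  rw [Units.val_mul, diag_mul ha (inv_mem hd : (Matrix.SpecialLinearGroup.toGL d)⁻¹ ∈ _)]
  rwa [show (Matrix.SpecialLinearGroup.toGL d).1 i i = (Matrix.SpecialLinearGroup.toGL a).1 i i from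
    Matrix.diagonal_apply_eq _ _] at h

theorem diagonal_upper {t : SL(n, F)} (ht : ∀ i j, i ≠ j → t.1 i j = 0) :
    Matrix.SpecialLinearGroup.toGL t ∈ Cfsg.upperTriangularGL n F :=
  fun _ _ hij => ht _ _ (fun e => (ne_of_lt hij) (by rw [e]))

theorem diagonal_conj_Us {t x : SL(n, F)} (ht : ∀ i j, i ≠ j → t.1 i j = 0) (hx : x ∈ Us n F) :
    t * x * t⁻¹ ∈ Us n F := by
  rw [Us, Subgroup.mem_comap, map_mul, map_mul, map_inv]
  exact upper_conj_mem (diagonal_upper ht) hx

theorem diagonal_comm {t d : SL(n, F)} (ht : ∀ i j, i ≠ j → t.1 i j = 0)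
    (hd : ∀ i j, i ≠ j → d.1 i j = 0) : t * d = d * t := by
  apply Subtype.ext
  rw [Matrix.SpecialLinearGroup.coe_mul, Matrix.SpecialLinearGroup.coe_mul]
  have e : ∀ {M : Matrix (Fin n) (Fin n) F}, (∀ i j, i ≠ j → M i j = 0) →
      M = Matrix.diagonal fun i => M i i := fun h => Matrix.ext fun i j => by
    by_cases hij : i = j
    · subst hij; simp
    · rw [h i j hij, Matrix.diagonal_apply_ne _ hij]
  rw [e ht, e hd, Matrix.diagonal_mul_diagonal, Matrix.diagonal_mul_diagonal]
  simp only [mul_comm]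

/-- The diagonal group normalises every overgroup of the unitriangular group. -/
theorem diagonal_normalizes [CharP F 2] {H : Subgroup SL(n, F)} (hU : Us n F ≤ H) {t h : SL(n, F)}
    (ht : ∀ i j, i ≠ j → t.1 i j = 0) (hh : h ∈ H) : t * h * t⁻¹ ∈ H := by
  classical
  haveI : Fact (Nat.Prime 2) := ⟨Nat.prime_two⟩
  -- `K` is generated by the conjugates of `Us` in `H`
  set K := ⨆ x : H, cj x.1 (Us n F) with hK
  have hKH : K ≤ H := iSup_le fun x => by
    rintro y hy
    rw [mem_cj] at hy
    have := mul_mem (mul_mem x.2 (hU hy)) (inv_mem x.2)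
    simpa [mul_assoc] using this
  have hUK : Us n F ≤ K := le_iSup_of_le (⟨1, one_mem H⟩ : H) (by rw [cj_one])
  -- the torus normalises every generator
  have hKt : ∀ y ∈ K, t * y * t⁻¹ ∈ K := by
    suffices ∀ x : H, cj t (cj x.1 (Us n F)) ≤ K by
      intro y hy
      have h1 : cj t K ≤ K := by rw [hK, cj, Subgroup.map_iSup]; exact iSup_le this
      exact h1 ⟨y, hy, rfl⟩
    intro x
    obtain ⟨b, hb, b', hb', σ, hg⟩ := exists_bruhat (Matrix.SpecialLinearGroup.toGL x.1)
    -- `x U x⁻¹ = u n U n⁻¹ u⁻¹`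
    have hdet : ((b' : GL (Fin n) F)⁻¹).1.det ≠ 0 := Matrix.GeneralLinearGroup.det_ne_zero _
    intro z hz
    rw [mem_cj, mem_cj] at hz
    -- write the middle part as an element of `H`
    have key : ∀ (c : GL (Fin n) F), c ∈ Cfsg.upperTriangularGL n F →
        ∃ v ∈ U n F, ∃ e : GL (Fin n) F, c = v * e ∧ ∀ i j, i ≠ j → e.1 i j = 0 := by
      intro c hc
      let e : GL (Fin n) F := .mk'' (Matrix.diagonal fun i => c.1 i i) (by
        rw [Matrix.det_diagonal, ← Matrix.det_of_isUpperTriangular (M := c.1) hc]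
        exact (Matrix.isUnit_iff_isUnit_det _).1 c.isUnit)
      have he : e ∈ Cfsg.upperTriangularGL n F := blockTriangular_diagonal _
      refine ⟨c * e⁻¹, ⟨mul_mem hc (inv_mem he), fun i => ?_⟩, e, by group,
        fun i j h => Matrix.diagonal_apply_ne _ h⟩
      have h := diag_inv he i
      rw [Units.val_mul, diag_mul hc (inv_mem he : e⁻¹ ∈ _)]
      simpa [e] using h
    obtain ⟨v, hv, e, hbe, he⟩ := key b hb
    obtain ⟨v', hv', rfl⟩ : ∃ v' : SL(n, F), v' ∈ Us n F ∧ Matrix.SpecialLinearGroup.toGL v' = v := by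
      obtain ⟨v', rfl⟩ := exists_toGL (det_of_mem_U hv)
      exact ⟨v', hv, rfl⟩
    -- the element `v'⁻¹ x` of `H` gives the torus-invariant conjugate
    have hy : v'⁻¹ * x.1 ∈ H := mul_mem (inv_mem (hU hv')) x.2
    set y : H := ⟨v'⁻¹ * x.1, hy⟩
    have hyt : cj t (cj y.1 (Us n F)) ≤ cj y.1 (Us n F) := by
      intro w hw
      rw [mem_cj, mem_cj] at hw
      rw [mem_cj]
      -- `t` is carried to an upper triangular element by `y`
      set s := (v'⁻¹ * x.1)⁻¹ * t * (v'⁻¹ * x.1)
      have hs : Matrix.SpecialLinearGroup.toGL s ∈ Cfsg.upperTriangularGL n F := by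
        have hy' : Matrix.SpecialLinearGroup.toGL (v'⁻¹ * x.1) = e * permGL n F σ * b' := by
          rw [map_mul, map_inv, hg, hbe]; group
        rw [map_mul, map_mul, map_inv, hy']
        set T := Matrix.SpecialLinearGroup.toGL t
        have he' : e * T = T * e := by
          apply Units.ext
          have de : ∀ {M : Matrix (Fin n) (Fin n) F}, (∀ i j, i ≠ j → M i j = 0) →
              M = Matrix.diagonal fun i => M i i := fun h => Matrix.ext fun i j => by
            by_cases hij : i = j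
            · subst hij; simp
            · rw [h i j hij, Matrix.diagonal_apply_ne _ hij]
          rw [Units.val_mul, Units.val_mul, de he,
            de (M := T.1) (fun i j h => ht i j h), Matrix.diagonal_mul_diagonal,
            Matrix.diagonal_mul_diagonal]
          simp only [mul_comm]
        rw [show (e * permGL n F σ * b')⁻¹ * T * (e * permGL n F σ * b') =
          b'⁻¹ * ((permGL n F σ)⁻¹ * (e⁻¹ * (T * e)) * permGL n F σ) * b' by group,
          ← he', inv_mul_cancel_left]
        refine mul_mem (mul_mem (inv_mem hb') ?_) hb'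
        intro i j hij
        rw [← map_inv, Units.val_mul, Units.val_mul]
        simp only [Matrix.mul_apply, permGL_apply]
        refine Finset.sum_eq_zero fun k _ => ?_
        by_cases hk : k = σ j
        · subst hk
          rw [if_pos rfl, mul_one]
          refine Finset.sum_eq_zero fun l _ => ?_
          by_cases hl : i = σ⁻¹ l
          · subst hl
            rw [if_pos rfl, one_mul]
            exact ht _ _ fun e' => by
              rw [e'] at hij
              simp at hij
          · rw [if_neg hl, zero_mul]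
        · rw [if_neg hk, mul_zero]
      have : (y.1)⁻¹ * w * y.1 = s * ((y.1)⁻¹ * (t⁻¹ * w * t) * y.1) * s⁻¹ := by
        simp only [y, s]; group
      rw [this]
      rw [Us, Subgroup.mem_comap, map_mul, map_mul, map_inv]
      exact upper_conj_mem hs hw
    -- transport back
    have hmem : (t * v'⁻¹ * t⁻¹) * z * (t * v'⁻¹ * t⁻¹)⁻¹ ∈ cj y.1 (Us n F) := by
      apply hyt
      rw [mem_cj, mem_cj]
      simp only [y]
      convert hz using 1
      group
    have hyK : cj y.1 (Us n F) ≤ K := le_iSup (fun x : H => cj x.1 (Us n F)) y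
    have hw := hUK (diagonal_conj_Us ht (inv_mem hv'))
    exact (K.mul_mem_cancel_left hw).1 ((K.mul_mem_cancel_right (inv_mem hw)).1 (hyK hmem))
  -- Frattini argument
  obtain ⟨S, hS⟩ := exists_sylow (n := n) (F := F)
  have hSK : (S : Subgroup SL(n, F)) ≤ K := hS ▸ hUK
  have hhK : ((h • S : Sylow 2 SL(n, F)) : Subgroup SL(n, F)) ≤ K := by
    rw [coe_smul_eq_cj, hS]
    exact le_iSup (fun x : H => cj x.1 (Us n F)) ⟨h, hh⟩
  obtain ⟨k, hk⟩ := MulAction.exists_smul_eq K (S.subtype hSK) ((h • S).subtype hhK)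
  rw [Sylow.smul_subtype] at hk
  have hk' : k.1 • S = h • S := Sylow.subtype_injective hk
  have hn : cj ((k.1)⁻¹ * h) (Us n F) = Us n F := by
    rw [← hS, ← cj_cj, ← coe_smul_eq_cj, ← hk', coe_smul_eq_cj, cj_cj, inv_mul_cancel, cj_one]
  have hup := upper_of_conj_Us (a := (k.1)⁻¹ * h) fun x hx => hn ▸ mem_cj.2 (by simpa [mul_assoc] using hx)
  obtain ⟨u, hu, d, hud, hd⟩ := upper_split _ hup
  have hdH : d ∈ H := by
    have : d = u⁻¹ * ((k.1)⁻¹ * h) := by rw [hud]; group
    rw [this]
    exact mul_mem (inv_mem (hU hu)) (mul_mem (inv_mem (hKH k.2)) hh)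
  have he : h = k.1 * u * d := by
    rw [mul_assoc, ← hud]; group
  rw [he, show t * (k.1 * u * d) * t⁻¹ = (t * k.1 * t⁻¹) * (t * u * t⁻¹) * (t * d * t⁻¹) by group,
    diagonal_comm ht hd, mul_inv_cancel_right]
  exact mul_mem (mul_mem (hKH (hKt _ k.2)) (hU (diagonal_conj_Us ht hu))) hdH

/-- Odd index subgroups of `SL_n(2^a)` are pronormal. -/
theorem pronormal [CharP F 2] (H : Subgroup SL(n, F)) (hH : Odd H.index) : Cfsg.IsPronormal H := by
  haveI : Fact (Nat.Prime 2) := ⟨Nat.prime_two⟩
  obtain ⟨S, hS⟩ := exists_sylow (n := n) (F := F)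
  refine pronormal_of_normalizer S (fun K hK g hg => ?_) H (Nat.two_dvd_ne_zero.2 (Nat.odd_iff.1 hH))
  rw [hS] at hK hg
  have hup := upper_of_conj_Us (a := g) fun x hx => hg ▸ mem_cj.2 (by simpa [mul_assoc] using hx)
  obtain ⟨u, hu, d, rfl, hd⟩ := upper_split _ hup
  refine Subgroup.eq_of_le_of_card_ge ?_ (Subgroup.card_map_of_injective (MulAut.conj (u * d)).injective).ge
  rintro y ⟨x, hx, rfl⟩
  show u * d * x * (u * d)⁻¹ ∈ K
  rw [show u * d * x * (u * d)⁻¹ = u * (d * x * d⁻¹) * u⁻¹ by group]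
  exact mul_mem (mul_mem (hK hu) (diagonal_normalizes hK hd hx)) (inv_mem (hK hu))

end CfsgLib.PronormalPSL.EvenChar
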