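import Cfsg.Agent.PronormalPSL.Generic
import Cfsg.Agent.DicksonPSL2.BinaryPSL
import Cfsg.Agent.FusionSub.QuatSL2

/-!
# Odd index subgroups of `PSL(2, q)`, `q` odd
-/

set_option autoImplicit false
set_option linter.unusedSectionVars false

namespace CfsgLib.PronormalPSL.Two

open Matrix CfsgLib.SL2Trace CfsgLib.DicksonPSL2 CfsgLib.PronormalPSL CfsgLib.FusionSub
open CfsgLib.SL2Tori (tr)
open CfsgLib.DicksonPSL2.Binary (odd_cases le_torus_of_odd eq_one_of_sq)
open scoped MatrixGroups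

variable {F : Type*} [Field F] [Fintype F]

theorem ker_projHom_le {Q : Subgroup SL(2, F)} (h : (-1 : SL(2, F)) ∈ Q) :
    (projHom (F := F)).ker ≤ Q := by
  intro x hx
  rw [MonoidHom.mem_ker, projHom_apply, proj_eq_one_iff] at hx
  rcases hx with rfl | rfl
  · exact one_mem _
  · exact h

theorem lift_normalizer {Q : Subgroup SL(2, F)} (h : (-1 : SL(2, F)) ∈ Q) {G : SL(2, F)}
    (hg : cj (proj G) (Q.map projHom) = Q.map projHom) :
    G ∈ Subgroup.normalizer (Q : Set SL(2, F)) := by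
  have mem : ∀ x, proj x ∈ Q.map projHom ↔ x ∈ Q := fun x => by
    rw [← projHom_apply, ← Subgroup.mem_comap, Subgroup.comap_map_eq_self (ker_projHom_le h)]
  rw [Subgroup.mem_normalizer_iff]
  intro x
  rw [← mem x, ← mem (G * x * G⁻¹)]
  conv_rhs => rw [← hg, mem_cj]
  rw [← proj_inv, ← proj_mul, ← proj_mul]
  simp [mul_assoc]

/-- Burnside's transfer theorem, packaged. -/
theorem exists_odd_normal_complement {X : Type*} [Group X] [Finite X] (P : Sylow 2 X)
    (h : Subgroup.normalizer ((P : Subgroup X) : Set X) ≤ Subgroup.centralizer ((P : Subgroup X) : Set X)) :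
    ∃ M : Subgroup X, M.Normal ∧ Odd (Nat.card M) ∧ (M = ⊥ → (P : Subgroup X) = ⊤) := by
  haveI : Fact (Nat.Prime 2) := ⟨Nat.prime_two⟩
  have hc := MonoidHom.ker_transferSylow_isComplement' P h
  refine ⟨(MonoidHom.transferSylow P h).ker, inferInstance, ?_, fun e => ?_⟩
  · rw [← hc.index_eq_card]
    exact Nat.odd_iff.2 (Nat.two_dvd_ne_zero.1 P.not_dvd_index)
  · rw [e] at hc
    exact Subgroup.isComplement'_bot_left.1 hc

/-- A group with a four subgroup and a normal odd order subgroup fixes no point unless the odd part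
is semisimple; then it normalises a torus. -/
theorem le_normalizer_torus (h2 : (2 : F) ≠ 0) {K O : Subgroup PSL(2, F)} (hOK : O ≤ K)
    (hnorm : ∀ k ∈ K, ∀ x ∈ O, k * x * k⁻¹ ∈ O) (hO : Odd (Nat.card O)) (hO1 : O ≠ ⊥) (hOt : O ≠ ⊤)
    {v v' : PSL(2, F)} (hv : v ∈ K) (hv' : v' ∈ K) (hv2 : v * v = 1) (hv2' : v' * v' = 1)
    (hvv : v * v' * (v * v') = 1) (hv1 : v ≠ 1) (hv1' : v' ≠ 1) (hne : v ≠ v') :
    ∃ x : PSL(2, F), IsTor x ∧ K ≤ Subgroup.normalizer (torus x : Set PSL(2, F)) := by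
  obtain ⟨p, hp⟩ := CharP.exists F
  haveI : Fact p.Prime := ⟨CharP.char_is_prime F p⟩
  by_cases hu : ∃ x ∈ O, x ≠ 1 ∧ ¬ IsTor x
  · exfalso
    obtain ⟨x, hx, hx1, hnt⟩ := hu
    rcases odd_cases hOt hO with ⟨a, ha⟩ | ⟨z, hz, hle⟩
    swap
    · rcases mem_or_inverts hz ((mem_normalizer_torus_iff hz).1 (hle hx)) with h | ⟨h, -⟩
      · exact hnt (isTor_of_mem_torus hz h hx1).1
      · exact hx1 (eq_one_of_sq hO hx h)
    have hB : ∀ k ∈ K, a * k * a⁻¹ ∈ BP := by
      intro k hk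
      have key : ∀ y ∈ O, y ≠ 1 → ¬ IsTor y → ∃ w, w ≠ 0 ∧ a * y * a⁻¹ = u w := by
        intro y hy hy1 hy'
        have hyB : a * y * a⁻¹ ∈ BP := ha (mem_conjS.2 (by simpa [mul_assoc] using hy))
        have hchi : chi (a * y * a⁻¹) = 1 := by
          by_contra h
          exact hy' ((isTor_conj_iff a y).1 (isTor_of_chi_ne_one hyB h))
        obtain ⟨w, hw⟩ := eq_u_of_chi_eq_one hyB hchi
        refine ⟨w, fun e => hy1 ?_, hw⟩
        rwa [e, u_zero, conj_eq_one_iff] at hw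
      obtain ⟨w, hw, hwe⟩ := key x hx hx1 hnt
      obtain ⟨v, -, hve⟩ := key (k * x * k⁻¹) (hnorm k hk x hx) (by rwa [Ne, conj_eq_one_iff])
        (by rwa [isTor_conj_iff])
      refine mem_BP_of_conj_u hw (v := v) ?_
      rw [← hwe, ← hve]; group
    have sq : ∀ y ∈ K, y * y = 1 → y ≠ 1 → chi (a * y * a⁻¹) = -1 := by
      intro y hy hyy hy1
      have h := chi_mul (a * y * a⁻¹) (hB y hy)
      rw [show a * y * a⁻¹ * (a * y * a⁻¹) = a * (y * y) * a⁻¹ by group, hyy,
        show a * (1 : PSL(2, F)) * a⁻¹ = 1 by group, chi_one] at h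
      rcases mul_self_eq_one_iff.1 h.symm with e | e
      · exfalso
        obtain ⟨w, hw⟩ := eq_u_of_chi_eq_one (hB y hy) e
        have hww : u (w + w) = (1 : PSL(2, F)) := by
          rw [u_add, ← hw, show a * y * a⁻¹ * (a * y * a⁻¹) = a * (y * y) * a⁻¹ by group, hyy]; group
        rw [← two_mul, ← u_zero] at hww
        rw [(mul_eq_zero.1 (u_injective hww)).resolve_left h2, u_zero, conj_eq_one_iff] at hw
        exact hy1 hw
      · exact e
    have e1 := sq _ hv hv2 hv1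
    have e2 := sq _ hv' hv2' hv1'
    have e3 := sq _ (mul_mem hv hv') hvv fun e => hne (by
      rw [eq_inv_of_mul_eq_one_left e]; exact inv_eq_of_mul_eq_one_right hv2')
    rw [show a * (v * v') * a⁻¹ = (a * v * a⁻¹) * (a * v' * a⁻¹) by group, chi_mul _ (hB _ hv'), e1, e2] at e3
    exact h2 (by linear_combination e3)
  simp only [not_exists, not_and, not_not] at hu
  obtain ⟨x, hx, hx1⟩ := (Subgroup.bot_or_exists_ne_one O).resolve_left hO1
  have hle := le_torus_of_odd hOt hO hu hx hx1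
  exact ⟨x, hu x hx hx1, fun k hk => (mem_normalizer_torus_iff (hu x hx hx1)).2 (hle (hnorm k hk x hx))⟩

/-- Odd index subgroups of `PSL(2, q)` are pronormal, `q` odd. -/
theorem pronormal (hodd : Odd (Fintype.card F)) (H : Subgroup PSL(2, F)) (hH : Odd H.index) :
    Cfsg.IsPronormal H := by
  haveI : Fact (Nat.Prime 2) := ⟨Nat.prime_two⟩
  have h2 : (2 : F) ≠ 0 := Linear.two_ne_zero_of_odd hodd
  have hH' : ¬ 2 ∣ H.index := Nat.two_dvd_ne_zero.2 (Nat.odd_iff.1 hH)
  obtain ⟨Q, i, j, hij, hi, hj⟩ := QuatSL2.exists_sylow (F := F) hodd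
  have hneg : (-1 : SL(2, F)) ∈ (Q : Subgroup SL(2, F)) := by rw [← hij.ii]; exact mul_mem hi hi
  let S : Sylow 2 PSL(2, F) :=
    IsPGroup.toSylow (Q.isPGroup'.map projHom) (by
      rw [Subgroup.index_map_eq _ projHom_surjective (ker_projHom_le hneg)]
      exact Q.not_dvd_index)
  have hS : (S : Subgroup PSL(2, F)) = (Q : Subgroup SL(2, F)).map projHom := rfl
  by_cases h16 : 16 ≤ Nat.card (Q : Subgroup SL(2, F))
  · refine pronormal_of_self_normalizing S (le_antisymm (fun g hg => ?_) Subgroup.le_normalizer) H hH'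
    obtain ⟨G, rfl⟩ := proj_surjective g
    rw [hS]
    refine ⟨G, QuatSL2.mem_of_normalizer hodd hij hi hj h16 (lift_normalizer hneg ?_), rfl⟩
    ext x
    rw [mem_cj, ← hS]
    have := (Subgroup.mem_normalizer_iff.1 (inv_mem hg)) x
    simpa using this.symm
  have h8 : Nat.card (Q : Subgroup SL(2, F)) = 8 := by
    obtain ⟨m, hm, ⟨e⟩⟩ := Linear.sylow_two_quaternion hodd Q
    have : NeZero (2 ^ m) := ⟨pow_ne_zero _ two_ne_zero⟩
    rw [Nat.card_congr e.toEquiv, Nat.card_eq_fintype_card, QuaternionGroup.card] at h16 ⊢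
    rcases m with _ | _ | m
    · omega
    · rfl
    · exfalso
      have : 0 < 2 ^ m := pow_pos two_pos m
      rw [pow_succ, pow_succ] at h16
      omega
  obtain ⟨g₀, -, hgi, hgj⟩ := QuatSL2.exists_three_cycle hodd hij
  have hg3 : g₀ ^ 3 ∈ (Q : Subgroup SL(2, F)) := by
    have neg : ∀ x : SL(2, F), g₀ * -x * g₀⁻¹ = -(g₀ * x * g₀⁻¹) := fun x => by
      rw [mul_neg, neg_mul]
    have hk : g₀ * (i * j) * g₀⁻¹ = i := by
      rw [show g₀ * (i * j) * g₀⁻¹ = (g₀ * i * g₀⁻¹) * (g₀ * j * g₀⁻¹) by simp [mul_assoc], hgi, hgj,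
        neg_mul_neg, ← mul_assoc, show j * i = -(i * j) from hij.ji, neg_mul, mul_assoc, hij.jj,
        mul_neg, mul_one, neg_neg]
    have three : ∀ x y z w : SL(2, F), g₀ * x * g₀⁻¹ = y → g₀ * y * g₀⁻¹ = z → g₀ * z * g₀⁻¹ = w →
        g₀ ^ 3 * x * (g₀ ^ 3)⁻¹ = w := by
      intro x y z w hx hy hz
      rw [← hz, ← hy, ← hx]
      simp [pow_succ, mul_assoc]
    have ci : g₀ ^ 3 * i * (g₀ ^ 3)⁻¹ = i :=
      three i (-j) (i * j) i hgi (by rw [neg, hgj, neg_neg]) hk
    have cj' : g₀ ^ 3 * j * (g₀ ^ 3)⁻¹ = j :=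
      three j (-(i * j)) (-i) j hgj (by rw [neg, hk]) (by rw [neg, hgi, neg_neg])
    rcases hij.eq_one_or h2 (mul_inv_eq_iff_eq_mul.1 ci) (mul_inv_eq_iff_eq_mul.1 cj') with e | e
    · rw [e]; exact one_mem _
    · rw [e]; exact hneg
  have hexp : ∀ y ∈ (S : Subgroup PSL(2, F)), y * y = 1 := by
    rintro y ⟨Y, hY, rfl⟩
    rw [projHom_apply, ← proj_mul, proj_eq_one_iff]
    rcases QuatSL2.mem_cases hodd hij hi hj h8 hY with (e | e) | (e | e) | (e | e) | (e | e) <;>
      rw [e] <;> simp [hij.ii, hij.jj, hij.mul_pair.jj]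
  refine pronormal_of_sylow S (fun L hL g hg => ?_) H hH'
  set K := L ⊔ cj g L with hK
  by_cases hgK : g ∈ K
  · exact ⟨g, hgK, rfl⟩
  refine ⟨1, one_mem _, ?_⟩
  rw [cj_one]
  have hSK : (S : Subgroup PSL(2, F)) ≤ K := hL.trans le_sup_left
  have hSg : (S : Subgroup PSL(2, F)) ≤ cj g L := hg ▸ Subgroup.map_mono hL
  -- `K` meets the normaliser of the four group only in itself
  have hmeet : ∀ k ∈ K, cj k (S : Subgroup PSL(2, F)) = S → k ∈ (S : Subgroup PSL(2, F)) := by
    intro k hk hkS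
    have split : ∀ y : PSL(2, F), cj y (S : Subgroup PSL(2, F)) = S →
        ∃ e : ℕ, ∃ s ∈ (S : Subgroup PSL(2, F)), y = proj g₀ ^ e * s := by
      intro y hy
      obtain ⟨Y, rfl⟩ := proj_surjective y
      obtain ⟨e, c, hc, rfl⟩ := QuatSL2.normalizer_cases hodd hij hi hj h8 hgi hgj
        (lift_normalizer hneg (by rw [← hS]; exact hy))
      exact ⟨e, proj c, ⟨c, hc, rfl⟩, by rw [proj_mul, ← projHom_apply (g₀ ^ e), map_pow, projHom_apply]⟩
    obtain ⟨e, s, hs, rfl⟩ := split k hkS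
    have h3 : proj g₀ ^ 3 ∈ (S : Subgroup PSL(2, F)) := ⟨g₀ ^ 3, hg3, by rw [map_pow, projHom_apply]⟩
    have he : proj g₀ ^ e ∈ K := (K.mul_mem_cancel_right (hSK hs)).1 hk
    rw [← Nat.div_add_mod e 3, pow_add, pow_mul] at he ⊢
    by_cases h0 : e % 3 = 0
    · rw [h0, pow_zero, mul_one]
      exact mul_mem (pow_mem h3 _) hs
    exfalso
    have h1 : proj g₀ ^ (e % 3) ∈ K := (K.mul_mem_cancel_left (hSK (pow_mem h3 _))).1 he
    have hγ : proj g₀ ∈ K := by
      have : e % 3 = 1 ∨ e % 3 = 2 := by omega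
      rcases this with h | h <;> rw [h] at h1
      · simpa using h1
      · have e2 : proj g₀ = (proj g₀ ^ 2) ^ 2 * (proj g₀ ^ 3)⁻¹ := by group
        rw [e2]
        exact mul_mem (pow_mem h1 2) (inv_mem (hSK h3))
    obtain ⟨f, r, hr, rfl⟩ := split g hg
    exact hgK (mul_mem (pow_mem hγ f) (hSK hr))
  -- the transfer gives a normal complement
  let SK : Sylow 2 K := S.subtype hSK
  have hNC : Subgroup.normalizer ((SK : Subgroup K) : Set K) ≤ Subgroup.centralizer ((SK : Subgroup K) : Set K) := by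
    intro k hk
    have hkS : cj k.1 (S : Subgroup PSL(2, F)) = S := by
      refine Subgroup.eq_of_le_of_card_ge ?_ (Subgroup.card_map_of_injective (MulAut.conj k.1).injective).ge
      rintro _ ⟨y, hy, rfl⟩
      exact ((Subgroup.mem_normalizer_iff.1 hk) ⟨y, hSK hy⟩).1 hy
    have hkmem := hmeet k.1 k.2 hkS
    rw [Subgroup.mem_centralizer_iff]
    intro y hy
    apply Subtype.ext
    show y.1 * k.1 = k.1 * y.1
    have h1 : y.1 * y.1 = 1 := hexp _ hy
    have h2' := hexp _ hkmem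
    have h3' := hexp _ (mul_mem (show y.1 ∈ (S : Subgroup PSL(2, F)) from hy) hkmem)
    calc y.1 * k.1 = (k.1 * k.1) * (y.1 * k.1) * (y.1 * y.1) := by rw [h1, h2', one_mul, mul_one]
      _ = k.1 * ((k.1 * y.1) * (k.1 * y.1)) * y.1 := by group
      _ = k.1 * y.1 := by
        have : k.1 * y.1 * (k.1 * y.1) = 1 :=
          hexp _ (mul_mem hkmem (show y.1 ∈ (S : Subgroup PSL(2, F)) from hy))
        rw [this, mul_one]
  obtain ⟨M, hMn, hModd, hMbot⟩ := exists_odd_normal_complement SK hNC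
  set O := M.map K.subtype with hO
  have hOK : O ≤ K := Subgroup.map_subtype_le _
  have hOodd : Odd (Nat.card O) := by
    rwa [hO, Subgroup.card_map_of_injective K.subtype_injective]
  have hnorm : ∀ k ∈ K, ∀ x ∈ O, k * x * k⁻¹ ∈ O := by
    rintro k hk _ ⟨x, hx, rfl⟩
    exact ⟨⟨k, hk⟩ * x * ⟨k, hk⟩⁻¹, hMn.conj_mem x hx _, rfl⟩
  -- two involutions of the four group
  have hSne : proj i ≠ 1 ∧ proj j ≠ 1 ∧ proj i ≠ proj j := by
    have nc := QuatSL2.not_commute hodd hij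
    refine ⟨fun e => nc ?_, fun e => nc ?_, fun e => nc ?_⟩
    · rcases (proj_eq_one_iff _).1 e with e | e <;> rw [e] <;> simp
    · rcases (proj_eq_one_iff _).1 e with e | e <;> rw [e] <;> simp
    · rcases proj_eq_proj_iff.1 e with e | e <;> rw [e] <;> simp
  have hiS : proj i ∈ (S : Subgroup PSL(2, F)) := ⟨i, hi, rfl⟩
  have hjS : proj j ∈ (S : Subgroup PSL(2, F)) := ⟨j, hj, rfl⟩
  by_cases hO1 : O = ⊥
  · -- then `K` is the four group
    have hKS : K ≤ S := by
      intro k hk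
      have : M = ⊥ := by
        rw [hO, Subgroup.map_eq_bot_iff, Subgroup.ker_subtype] at hO1
        exact le_bot_iff.1 hO1
      have : (SK : Subgroup K) = ⊤ := hMbot this
      exact (show (⟨k, hk⟩ : K) ∈ (SK : Subgroup K) by rw [this]; trivial)
    rw [le_antisymm (le_sup_right.trans hKS) hSg, le_antisymm (le_sup_left.trans hKS) hL]
  have hOt : O ≠ ⊤ := fun e => by
    have : Even (Nat.card O) := by
      rw [e, Subgroup.card_top]
      have := Subgroup.orderOf_dvd_natCard (⊤ : Subgroup PSL(2, F)) (Subgroup.mem_top (proj i))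
      rw [Subgroup.card_top] at this
      refine even_iff_two_dvd.2 (Dvd.dvd.trans ?_ this)
      rw [orderOf_eq_prime (p := 2) (by rw [pow_two]; exact hexp _ hiS) hSne.1]
    exact Nat.not_even_iff_odd.2 hOodd this
  obtain ⟨x, hx, hle⟩ := le_normalizer_torus h2 hOK hnorm hOodd hO1 hOt (hSK hiS) (hSK hjS)
    (hexp _ hiS) (hexp _ hjS) (hexp _ (mul_mem hiS hjS)) hSne.1 hSne.2.1 hSne.2.2
  have hNx : ∀ k ∈ K, k ∉ torus x → k * k = 1 ∧ ∀ y ∈ torus x, k * y * k⁻¹ = y⁻¹ := fun k hk hk' =>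
    (mem_or_inverts hx ((mem_normalizer_torus_iff hx).1 (hle hk))).resolve_left hk'
  haveI := isCyclic_torus hx
  -- the involution of the torus lies in the four group
  have uniq : ∀ y ∈ torus x, ∀ z ∈ torus x, orderOf y = orderOf z → y ∈ Subgroup.zpowers z := by
    intro y hy z hz he
    classical
    set Y : torus x := ⟨y, hy⟩
    set Z : torus x := ⟨z, hz⟩
    have hYZ : orderOf Y = orderOf Z := by rwa [Subgroup.orderOf_mk, Subgroup.orderOf_mk]
    have hmem : Y ∈ Subgroup.zpowers Z := by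
      have hle := IsCyclic.card_pow_eq_one_le (α := torus x) (n := orderOf Z) (orderOf_pos Z)
      have hsub : (Finset.univ.filter fun a => a ∈ Subgroup.zpowers Z) ⊆
          Finset.univ.filter fun a => a ^ orderOf Z = 1 := by
        intro a ha
        simp only [Finset.mem_filter, Finset.mem_univ, true_and] at ha ⊢
        obtain ⟨l, rfl⟩ := Subgroup.mem_zpowers_iff.1 ha
        rw [← zpow_natCast, zpow_comm, zpow_natCast, pow_orderOf_eq_one, _root_.one_zpow]
      have hcard : (Finset.univ.filter fun a => a ∈ Subgroup.zpowers Z).card = orderOf Z := by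
        rw [← Nat.card_zpowers, Nat.card_eq_fintype_card, Fintype.card_subtype]
      have heq := Finset.eq_of_subset_of_card_le hsub (by rw [hcard]; exact hle)
      have : Y ∈ Finset.univ.filter fun a => a ^ orderOf Z = 1 := by
        rw [Finset.mem_filter, ← hYZ]; exact ⟨Finset.mem_univ _, pow_orderOf_eq_one Y⟩
      rw [← heq] at this
      simpa using this
    obtain ⟨l, hl⟩ := Subgroup.mem_zpowers_iff.1 hmem
    exact Subgroup.mem_zpowers_iff.2 ⟨l, congrArg Subtype.val hl⟩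
  have div : ∀ y ∈ K, ∀ z ∈ K, y ∉ torus x → z ∉ torus x → z⁻¹ * y ∈ torus x := fun y hy z hz hy' hz' =>
    div_mem_torus hx ((mem_normalizer_torus_iff hx).1 (hle hy))
      ((mem_normalizer_torus_iff hx).1 (hle hz)) hy' hz'
  obtain ⟨τ, hτS, hτT, hτ1⟩ : ∃ τ ∈ (S : Subgroup PSL(2, F)), τ ∈ torus x ∧ τ ≠ 1 := by
    by_cases h1 : proj i ∈ torus x
    · exact ⟨_, hiS, h1, hSne.1⟩
    by_cases h2' : proj j ∈ torus x
    · exact ⟨_, hjS, h2', hSne.2.1⟩
    exact ⟨_, mul_mem (inv_mem hjS) hiS, div _ (hSK hiS) _ (hSK hjS) h1 h2', fun e => hSne.2.2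
      (inv_mul_eq_one.1 e).symm⟩
  obtain ⟨σ, hσS, hσT⟩ : ∃ σ ∈ (S : Subgroup PSL(2, F)), σ ∉ torus x := by
    by_contra h
    simp only [not_exists, not_and, not_not] at h
    have e := uniq _ (h _ hiS) _ (h _ hjS) (by
      rw [orderOf_eq_prime (p := 2) (by rw [pow_two]; exact hexp _ hiS) hSne.1,
        orderOf_eq_prime (p := 2) (by rw [pow_two]; exact hexp _ hjS) hSne.2.1])
    obtain ⟨l, hl⟩ := Subgroup.mem_zpowers_iff.1 e
    rcases Int.even_or_odd' l with ⟨r, rfl | rfl⟩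
    · rw [_root_.zpow_mul, zpow_ofNat, pow_two, hexp _ hjS, _root_.one_zpow] at hl
      exact hSne.1 hl.symm
    · rw [_root_.zpow_add, _root_.zpow_mul, zpow_ofNat, pow_two, hexp _ hjS, _root_.one_zpow, one_mul, zpow_one] at hl
      exact hSne.2.2 hl.symm
  have htor : ∀ y ∈ L, y ∈ torus x → y ∈ cj g L := by
    intro y hy hyT
    have hgy : g * y * g⁻¹ ∈ cj g L := ⟨y, hy, rfl⟩
    by_cases hT : g * y * g⁻¹ ∈ torus x
    · have h := uniq y hyT _ hT (by rw [← MulAut.conj_apply, MulEquiv.orderOf_eq])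
      exact (Subgroup.zpowers_le.2 hgy) h
    · have hinv := (hNx _ ((le_sup_right : cj g L ≤ K) hgy) hT).1
      by_cases hy1 : y = 1
      · rw [hy1]; exact one_mem _
      have hyy : y * y = 1 := by
        rwa [show g * y * g⁻¹ * (g * y * g⁻¹) = g * (y * y) * g⁻¹ by group, conj_eq_one_iff] at hinv
      have h := uniq y hyT τ hτT (by
        rw [orderOf_eq_prime (p := 2) (by rw [pow_two, hyy]) hy1,
          orderOf_eq_prime (p := 2) (by rw [pow_two]; exact hexp _ hτS) hτ1])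
      exact (Subgroup.zpowers_le.2 (hSg hτS)) h
  refine (Subgroup.eq_of_le_of_card_ge (fun y hy => ?_) (Subgroup.card_map_of_injective
    (MulAut.conj g).injective).le).symm
  by_cases hyT : y ∈ torus x
  · exact htor y hy hyT
  · have h := htor (σ⁻¹ * y) (mul_mem (inv_mem (hL hσS)) hy)
      (div y ((le_sup_left : L ≤ K) hy) σ (hSK hσS) hyT hσT)
    simpa using mul_mem (hSg hσS) h

end CfsgLib.PronormalPSL.Two
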