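import Cfsg.Agent.PronormalPSL.Tower
import Cfsg.Agent.PronormalPSL.EvenChar
import Cfsg.Agent.PronormalPSL.Two

/-!
# From the tower to `PSL`, and transport of pronormality
-/

set_option autoImplicit false

namespace CfsgLib.PronormalPSL

open Matrix
open scoped MatrixGroups

/-- Pronormality is transported by isomorphisms. -/
theorem isPronormal_of_equiv {G K : Type*} [Group G] [Group K] [Finite G] (e : G ≃* K) (H : Subgroup K)
    (h : Cfsg.IsPronormal (H.comap e.toMonoidHom)) : Cfsg.IsPronormal H := by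
  haveI : Finite K := Finite.of_equiv G e.toEquiv
  intro g
  obtain ⟨x, hx, hxe⟩ := h (e.symm g)
  have hmap : ∀ a : G, (cj a (H.comap e.toMonoidHom)).map e.toMonoidHom = cj (e a) H := by
    intro a
    ext y
    rw [Subgroup.mem_map_equiv, mem_cj, mem_cj, Subgroup.mem_comap]
    simp
  have hH : (H.comap e.toMonoidHom).map e.toMonoidHom = H :=
    Subgroup.map_comap_eq_self_of_surjective e.surjective _
  refine ⟨e x, ?_, ?_⟩
  · have h1 : e x ∈ (H.comap e.toMonoidHom ⊔ cj (e.symm g) (H.comap e.toMonoidHom)).map e.toMonoidHom :=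
      Subgroup.mem_map_of_mem _ hx
    rwa [Subgroup.map_sup, hH, hmap, e.apply_symm_apply] at h1
  · have h1 := congrArg (Subgroup.map e.toMonoidHom) hxe
    change (cj (e.symm g) _).map _ = (cj x _).map _ at h1
    rwa [hmap, hmap, e.apply_symm_apply] at h1

variable {F : Type*} [Field F] [Fintype F]

/-- A `p`-element normalising a Sylow subgroup lies in it. -/
theorem mem_of_two_element {X : Type*} [Group X] [Finite X] {p : ℕ} [Fact p.Prime] (S : Sylow p X)
    {g : X} (hg : g ∈ Subgroup.normalizer ((S : Subgroup X) : Set X)) (h : ∃ k : ℕ, g ^ p ^ k = 1) :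
    g ∈ (S : Subgroup X) := by
  obtain ⟨k, hk⟩ := h
  obtain ⟨l, -, hl⟩ := (Nat.dvd_prime_pow (Fact.out : p.Prime)).1 (orderOf_dvd_of_pow_eq_one hk)
  have h1 : IsPGroup p (Subgroup.zpowers g) := IsPGroup.of_card (by rw [Nat.card_zpowers, hl])
  have h2 : IsPGroup p ((S : Subgroup X) ⊔ Subgroup.zpowers g : Subgroup X) :=
    S.isPGroup'.to_sup_of_normal_left' h1 (Subgroup.zpowers_le.2 hg)
  rw [← S.is_maximal' h2 le_sup_left]
  exact (le_sup_right : Subgroup.zpowers g ≤ (S : Subgroup X) ⊔ Subgroup.zpowers g) (Subgroup.mem_zpowers g)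

/-- From a tower subgroup to `PSL(n, q)`. -/
theorem pronormal_of_tower {n : ℕ} (hpow : ∃ a, n = 2 ^ a) (T : Subgroup (GL (Fin n) F))
    (hT : Tower.IsTower T) (hN : Tower.NormDet T)
    (H : Subgroup (Matrix.ProjectiveSpecialLinearGroup (Fin n) F)) (hH : Odd H.index) :
    Cfsg.IsPronormal H := by
  haveI : Fact (Nat.Prime 2) := ⟨Nat.prime_two⟩
  set inc := (Matrix.SpecialLinearGroup.toGL : SL(n, F) →* GL (Fin n) F)
  set L := T.comap inc with hL
  -- `L` is Sylow
  have hLp : IsPGroup 2 L := hT.two.comap_of_injective inc Matrix.SpecialLinearGroup.toGL_injective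
  obtain ⟨S, hLS⟩ := hLp.exists_le_sylow
  have hS : (S : Subgroup SL(n, F)) = L := by
    obtain ⟨P, hP⟩ := (S.isPGroup'.map inc).exists_le_sylow
    let ST : Sylow 2 (GL (Fin n) F) := hT.two.toSylow hT.index_odd
    obtain ⟨c, hc⟩ := MulAction.exists_smul_eq (GL (Fin n) F) P ST
    refine (Subgroup.eq_of_le_of_card_ge hLS ?_).symm
    -- conjugating by `c` maps `S` into `L`
    have hcs : ∀ s ∈ (S : Subgroup SL(n, F)), c * inc s * c⁻¹ ∈ T := fun s hs => by
      have h1 : c * inc s * c⁻¹ ∈ ((c • P : Sylow 2 (GL (Fin n) F)) : Subgroup (GL (Fin n) F)) := by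
        rw [coe_smul_eq_cj, mem_cj]
        simpa [mul_assoc] using hP ⟨s, hs, rfl⟩
      rwa [hc] at h1
    have hdet : ∀ s : SL(n, F), (c * inc s * c⁻¹).1.det = 1 := fun s => by
      rw [Units.val_mul, Units.val_mul, Matrix.det_mul_right_comm, ← Units.val_mul, mul_inv_cancel,
        Units.val_one, Matrix.one_mul]
      exact s.2
    refine Nat.card_le_card_of_injective
      (fun s : (S : Subgroup SL(n, F)) => (⟨⟨(c * inc s.1 * c⁻¹).1, hdet s.1⟩, by
        show inc ⟨(c * inc s.1 * c⁻¹).1, hdet s.1⟩ ∈ T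
        have e : inc ⟨(c * inc s.1 * c⁻¹).1, hdet s.1⟩ = c * inc s.1 * c⁻¹ := Units.ext rfl
        rw [e]
        exact hcs s.1 s.2⟩ : L)) ?_
    intro s t e
    have e' : (c * inc s.1 * c⁻¹).1 = (c * inc t.1 * c⁻¹).1 := congrArg (fun u : L => u.1.1) e
    have := Units.ext e'
    exact Subtype.ext (Matrix.SpecialLinearGroup.toGL_injective (mul_left_cancel (mul_right_cancel this)))
  -- it is self-normalising
  have hNS : ∀ g ∈ Subgroup.normalizer ((S : Subgroup SL(n, F)) : Set SL(n, F)), g ∈ (S : Subgroup SL(n, F)) := by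
    intro g hg
    obtain ⟨a, o, ho, hao⟩ := Nat.exists_eq_pow_mul_and_not_dvd (orderOf_pos g).ne' 2 (by norm_num)
    refine mem_of_two_element S hg ⟨a, ?_⟩
    have ho' : Odd o := Nat.not_even_iff_odd.1 fun he => ho he.two_dvd
    set h := g ^ 2 ^ a with hh
    have hho : h ^ o = 1 := by rw [hh, ← pow_mul, ← hao, pow_orderOf_eq_one]
    have hhN : h ∈ Subgroup.normalizer ((S : Subgroup SL(n, F)) : Set SL(n, F)) := pow_mem hg _
    obtain ⟨c, hc⟩ := hN (inc h) (ho'.of_dvd_nat (orderOf_dvd_of_pow_eq_one (by rw [← map_pow, hho, map_one])))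
      fun x hx hxd => by
        let x' : SL(n, F) := ⟨x.1, hxd⟩
        have hx' : inc x' = x := Units.ext rfl
        have hmem : x' ∈ (S : Subgroup SL(n, F)) := by rw [hS, hL, Subgroup.mem_comap, hx']; exact hx
        have := (Subgroup.mem_normalizer_iff.1 hhN x').1 hmem
        rw [hS, hL, Subgroup.mem_comap, map_mul, map_mul, map_inv, hx'] at this
        exact this
    have hd : c ^ n = 1 := by
      have e := h.2
      rw [show h.1 = c • (1 : Matrix (Fin n) (Fin n) F) from hc, Matrix.det_smul, Matrix.det_one,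
        mul_one, Fintype.card_fin] at e
      exact e
    have hco : c ^ o = 1 := by
      have e := congrArg (fun u : GL (Fin n) F => u.1) (show inc h ^ o = 1 by rw [← map_pow, hho, map_one])
      simp only [Units.val_pow_eq_pow_val, hc, Units.val_one, _root_.smul_pow, one_pow] at e
      have hpos : 0 < n := by obtain ⟨a₀, rfl⟩ := hpow; exact pow_pos two_pos _
      have := congrFun (congrFun e ⟨0, hpos⟩) ⟨0, hpos⟩
      simpa using this
    have hc1 : c = 1 := by
      have hd' := Nat.dvd_gcd (orderOf_dvd_of_pow_eq_one hd) (orderOf_dvd_of_pow_eq_one hco)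
      obtain ⟨a₀, rfl⟩ := hpow
      rw [Nat.Coprime.gcd_eq_one (Nat.Coprime.pow_left _ (Nat.coprime_two_left.2 ho')), Nat.dvd_one] at hd'
      exact orderOf_eq_one_iff.1 hd'
    apply Matrix.SpecialLinearGroup.toGL_injective
    apply Units.ext
    show (inc h).1 = (inc 1).1
    rw [map_one, hc, hc1, one_smul, Units.val_one]
  -- descend
  set π := QuotientGroup.mk' (Subgroup.center SL(n, F))
  have hker : π.ker ≤ (S : Subgroup SL(n, F)) := by
    rw [QuotientGroup.ker_mk']
    intro z hz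
    refine hNS z ?_
    rw [Subgroup.mem_normalizer_iff]
    intro x
    rw [show z * x * z⁻¹ = x by rw [← Subgroup.mem_center_iff.1 hz x, mul_inv_cancel_right]]
  have hsurj : Function.Surjective π := QuotientGroup.mk'_surjective _
  let S' : Sylow 2 (Matrix.ProjectiveSpecialLinearGroup (Fin n) F) :=
    IsPGroup.toSylow (S.isPGroup'.map π) (by
      rw [Subgroup.index_map_eq _ hsurj hker]
      exact S.not_dvd_index)
  refine pronormal_of_self_normalizing S' (le_antisymm (fun y hy => ?_) Subgroup.le_normalizer) H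
    (Nat.two_dvd_ne_zero.2 (Nat.odd_iff.1 hH))
  obtain ⟨g, rfl⟩ := hsurj y
  refine ⟨g, hNS g ?_, rfl⟩
  have mem : ∀ x, π x ∈ (S : Subgroup SL(n, F)).map π ↔ x ∈ (S : Subgroup SL(n, F)) := fun x => by
    rw [← Subgroup.mem_comap, Subgroup.comap_map_eq_self hker]
  rw [Subgroup.mem_normalizer_iff] at hy ⊢
  intro x
  rw [← mem x, ← mem (g * x * g⁻¹), map_mul, map_mul, map_inv]
  exact hy (π x)

/-- Odd index subgroups of `PSL(n, q)`, `q` odd, `n = 2^(w+1) ≥ 4`. -/
theorem pronormal_odd_char (hodd : Odd (Fintype.card F)) {w : ℕ} (hw : 1 ≤ w)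
    (H : Subgroup (Matrix.ProjectiveSpecialLinearGroup (Fin (2 ^ (w + 1))) F)) (hH : Odd H.index) :
    Cfsg.IsPronormal H := by
  obtain ⟨T, hT, hN⟩ := Tower.exists_tower (F := F) hodd w
  exact pronormal_of_tower ⟨w + 1, rfl⟩ T hT (hN hw) H hH

/-- In characteristic two with `n` a power of two the centre is trivial. -/
theorem pronormal_even_char [CharP F 2] {w : ℕ}
    (H : Subgroup (Matrix.ProjectiveSpecialLinearGroup (Fin (2 ^ w)) F)) (hH : Odd H.index) :
    Cfsg.IsPronormal H := by
  haveI : Fact (Nat.Prime 2) := ⟨Nat.prime_two⟩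
  have hz : Subgroup.center SL(2 ^ w, F) = ⊥ := by
    rw [Subgroup.eq_bot_iff_forall]
    intro z hz
    obtain ⟨r, hr, hrz⟩ := Matrix.SpecialLinearGroup.mem_center_iff.1 hz
    rw [Fintype.card_fin] at hr
    have hr1 : r = 1 := by
      have : (r - 1) ^ 2 ^ w = 0 := by rw [sub_pow_char_pow, one_pow, hr, sub_self]
      exact sub_eq_zero.1 (eq_zero_of_pow_eq_zero this)
    apply Subtype.ext
    rw [← hrz, hr1]
    simp
  let e : SL(2 ^ w, F) ≃* Matrix.ProjectiveSpecialLinearGroup (Fin (2 ^ w)) F :=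
    MulEquiv.ofBijective (QuotientGroup.mk' (Subgroup.center SL(2 ^ w, F)))
      ⟨(MonoidHom.ker_eq_bot_iff _).1 (by rw [QuotientGroup.ker_mk', hz]), QuotientGroup.mk'_surjective _⟩
  refine isPronormal_of_equiv e H (EvenChar.pronormal _ ?_)
  rwa [Subgroup.index_comap_of_surjective (f := e.toMonoidHom) H e.surjective]

end CfsgLib.PronormalPSL
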