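import Cfsg.Prelude.Def_HallClasses
import Mathlib

/-!
# Pronormality of subgroups containing a Sylow subgroup
-/

set_option autoImplicit false

namespace CfsgLib.PronormalPSL

variable {G : Type*} [Group G] [Finite G] {p : ℕ} [Fact p.Prime]

/-- The conjugate `g H g⁻¹`. -/
abbrev cj (g : G) (H : Subgroup G) : Subgroup G := H.map (MulAut.conj g).toMonoidHom

theorem cj_cj (a b : G) (H : Subgroup G) : cj a (cj b H) = cj (a * b) H := by
  rw [cj, cj, cj, Subgroup.map_map]
  congr 1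
  ext x
  simp [mul_assoc]

theorem cj_one (H : Subgroup G) : cj (1 : G) H = H := by
  ext x
  simp

theorem cj_sup (a : G) (H K : Subgroup G) : cj a (H ⊔ K) = cj a H ⊔ cj a K :=
  Subgroup.map_sup _ _ _

theorem mem_cj {g x : G} {H : Subgroup G} : x ∈ cj g H ↔ g⁻¹ * x * g ∈ H := by
  rw [cj, Subgroup.mem_map_equiv]
  simp

theorem coe_smul_eq_cj (g : G) (P : Sylow p G) :
    ((g • P : Sylow p G) : Subgroup G) = cj g (P : Subgroup G) := rfl

theorem index_cj (g : G) (H : Subgroup G) : (cj g H).index = H.index :=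
  Subgroup.index_map_equiv H (MulAut.conj g)

/-- If every element normalising a fixed Sylow subgroup is harmless, so is every subgroup of
index prime to `p`. -/
theorem pronormal_of_sylow (S₀ : Sylow p G)
    (key : ∀ H : Subgroup G, (S₀ : Subgroup G) ≤ H → ∀ g : G, cj g (S₀ : Subgroup G) = S₀ →
      ∃ x ∈ H ⊔ cj g H, cj g H = cj x H)
    (H : Subgroup G) (hH : ¬ p ∣ H.index) : Cfsg.IsPronormal H := by
  -- a conjugate of `S₀` lies in `H`
  obtain ⟨Q⟩ : Nonempty (Sylow p H) := inferInstance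
  obtain ⟨P, hP⟩ : ∃ P : Sylow p G, (P : Subgroup G) ≤ H := by
    have hpg : IsPGroup p ((Q : Subgroup H).map H.subtype) := Q.isPGroup'.map _
    refine ⟨hpg.toSylow ?_, Subgroup.map_subtype_le _⟩
    rw [Subgroup.index_map_subtype]
    exact (Nat.Prime.coprime_iff_not_dvd Fact.out).1
      (Nat.Coprime.mul_right ((Nat.Prime.coprime_iff_not_dvd Fact.out).2 Q.not_dvd_index)
        ((Nat.Prime.coprime_iff_not_dvd Fact.out).2 hH))
  obtain ⟨a, ha⟩ := MulAction.exists_smul_eq G S₀ P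
  set H' := cj a⁻¹ H with hH'
  have hS : (S₀ : Subgroup G) ≤ H' := fun x hx => by
    rw [hH', mem_cj, inv_inv]
    refine hP ?_
    rw [← ha, coe_smul_eq_cj, mem_cj]
    simpa [mul_assoc] using hx
  intro g
  set g' := a⁻¹ * g * a with hg'
  -- inside `H' ⊔ g' H' g'⁻¹` the two Sylow subgroups are conjugate
  set K := H' ⊔ cj g' H' with hK
  have h1 : (S₀ : Subgroup G) ≤ K := hS.trans le_sup_left
  have h2 : ((g' • S₀ : Sylow p G) : Subgroup G) ≤ K :=
    (Subgroup.map_mono hS).trans le_sup_right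
  obtain ⟨k, hk⟩ := MulAction.exists_smul_eq K (S₀.subtype h1) ((g' • S₀).subtype h2)
  rw [Sylow.smul_subtype] at hk
  have hk' : k.1 • S₀ = g' • S₀ := Sylow.subtype_injective hk
  have hn : cj ((k.1)⁻¹ * g') (S₀ : Subgroup G) = S₀ := by
    rw [← cj_cj, ← coe_smul_eq_cj, ← hk', coe_smul_eq_cj, cj_cj, inv_mul_cancel, cj_one]
  obtain ⟨x, hx, hxe⟩ := key H' hS _ hn
  have hxK : x ∈ K := by
    refine (sup_le le_sup_left ?_ : H' ⊔ cj ((k.1)⁻¹ * g') H' ≤ K) hx
    intro y hy
    rw [← cj_cj, mem_cj, inv_inv] at hy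
    have h : k.1 * y * (k.1)⁻¹ ∈ K := (le_sup_right : cj g' H' ≤ K) hy
    exact (K.mul_mem_cancel_left k.2).1 ((K.mul_mem_cancel_right (inv_mem k.2)).1 h)
  have hkx : k.1 * x ∈ K := mul_mem k.2 hxK
  refine ⟨a * (k.1 * x) * a⁻¹, ?_, ?_⟩
  · have e : H ⊔ cj g H = cj a K := by
      rw [hK, cj_sup, hH', hg', cj_cj, cj_cj, cj_cj, mul_inv_cancel, cj_one,
        show a * (a⁻¹ * g * a) * a⁻¹ = g by group]
    show a * (k.1 * x) * a⁻¹ ∈ H ⊔ cj g H
    rw [e, mem_cj]
    simpa [mul_assoc] using hkx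
  · show cj g H = cj (a * (k.1 * x) * a⁻¹) H
    have e : cj g' H' = cj (k.1 * x) H' := by
      conv_lhs => rw [show g' = k.1 * ((k.1)⁻¹ * g') by group]
      rw [← cj_cj k.1, hxe, cj_cj]
    have := congrArg (cj a) e
    rwa [hH', hg', cj_cj, cj_cj, cj_cj, cj_cj, show a * (a⁻¹ * g * a) * a⁻¹ = g by group] at this

theorem pronormal_of_normalizer (S₀ : Sylow p G)
    (key : ∀ H : Subgroup G, (S₀ : Subgroup G) ≤ H → ∀ g : G, cj g (S₀ : Subgroup G) = S₀ →
      cj g H = H)
    (H : Subgroup G) (hH : ¬ p ∣ H.index) : Cfsg.IsPronormal H :=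
  pronormal_of_sylow S₀ (fun K hK g hg => ⟨1, one_mem _, by rw [key K hK g hg, cj_one]⟩) H hH

/-- A self-normalising Sylow subgroup. -/
theorem pronormal_of_self_normalizing (S₀ : Sylow p G)
    (hN : Subgroup.normalizer ((S₀ : Subgroup G) : Set G) = S₀)
    (H : Subgroup G) (hH : ¬ p ∣ H.index) : Cfsg.IsPronormal H := by
  refine pronormal_of_normalizer S₀ (fun K hK g hg => ?_) H hH
  have hgS : g ∈ (S₀ : Subgroup G) := by
    rw [← hN, Subgroup.mem_normalizer_iff]
    intro x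
    constructor
    · intro hx
      rw [← hg, mem_cj]
      simpa [mul_assoc] using hx
    · intro hx
      rw [← hg, mem_cj] at hx
      simpa [mul_assoc] using hx
  have := hK hgS
  ext x
  rw [mem_cj]
  constructor
  · intro hx
    simpa [mul_assoc] using mul_mem (mul_mem this hx) (inv_mem this)
  · intro hx
    exact mul_mem (mul_mem (inv_mem this) hx) this

/-- A `p`-subgroup normalised only by itself among `p`-groups is Sylow: the maximality criterion. -/
theorem exists_sylow_of_normalizer {U : Subgroup G} (hU : IsPGroup p U)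
    (h : ∀ g ∈ Subgroup.normalizer (U : Set G), (∃ k : ℕ, g ^ p ^ k = 1) → g ∈ U) :
    ∃ S : Sylow p G, (S : Subgroup G) = U := by
  obtain ⟨S, hS⟩ := hU.exists_le_sylow
  refine ⟨S, le_antisymm ?_ hS⟩
  by_contra hne
  have hlt : U.subgroupOf (S : Subgroup G) < ⊤ := lt_top_iff_ne_top.2 fun e => hne (Subgroup.subgroupOf_eq_top.1 e)
  haveI : Group.IsNilpotent (S : Subgroup G) := S.isPGroup'.isNilpotent
  have := Group.normalizerCondition_of_isNilpotent (G := (S : Subgroup G)) _ hlt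
  obtain ⟨⟨g, hgS⟩, hgN, hgU⟩ := SetLike.exists_of_lt this
  refine hgU (h g ?_ ?_)
  · rw [Subgroup.mem_normalizer_iff] at hgN ⊢
    intro x
    constructor
    · intro hx
      exact (hgN ⟨x, hS hx⟩).1 hx
    · intro hx
      have hxS : x ∈ (S : Subgroup G) := by
        have := mul_mem (mul_mem (inv_mem hgS) (hS hx)) hgS
        simpa [mul_assoc] using this
      exact (hgN ⟨x, hxS⟩).2 hx
  · obtain ⟨k, hk⟩ := S.isPGroup' ⟨g, hgS⟩
    exact ⟨k, congrArg Subtype.val hk⟩

end CfsgLib.PronormalPSL
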