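import Cfsg.Agent.PronormalPSL.Generic
import Cfsg.Agent.FusionSub.GLTwoSylow
import Mathlib.LinearAlgebra.Matrix.GeneralLinearGroup.Card

/-!
# Sylow 2-subgroups of `GL_n(q)`, `q` odd, `n` a power of two

They are iterated wreath products; an element of odd order normalising the determinant one part is
a scalar once `n ≥ 4`.
-/

set_option autoImplicit false
set_option linter.unusedSectionVars false

namespace CfsgLib.PronormalPSL.Tower

open Matrix
open scoped MatrixGroups

variable {F : Type*} [Field F] [Fintype F]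

/-! ### The two-part of `q^i - 1` -/

/-- The exponent of two in `q^i - 1`. -/
noncomputable def val (q i : ℕ) : ℕ := (q ^ i - 1).factorization 2

theorem pow_sub_one_ne_zero {q i : ℕ} (hq : 2 ≤ q) (hi : 0 < i) : q ^ i - 1 ≠ 0 := by
  have : q ^ 1 ≤ q ^ i := Nat.pow_le_pow_right (by omega) hi
  rw [pow_one] at this
  omega

theorem factorization_odd {m : ℕ} (h : m % 2 = 1) : m.factorization 2 = 0 :=
  Nat.factorization_eq_zero_of_not_dvd (by omega)

theorem val_add {q i h : ℕ} (hq : q % 2 = 1) (hq2 : 2 ≤ q) (hi : 0 < i) (hh : 0 < h)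
    (hlt : val q i < val q h) : val q (h + i) = val q i := by
  have hX := pow_sub_one_ne_zero hq2 hi
  have hY := pow_sub_one_ne_zero hq2 hh
  have hZ := pow_sub_one_ne_zero hq2 (show 0 < h + i by omega)
  have e : q ^ (h + i) - 1 = q ^ h * (q ^ i - 1) + (q ^ h - 1) := by
    have h1 : 1 ≤ q ^ h := Nat.one_le_pow _ _ (by omega)
    have h2 : q ^ h ≤ q ^ (h + i) := Nat.pow_le_pow_right (by omega) (by omega)
    rw [Nat.mul_sub, mul_one, ← pow_add]
    omega
  have p2 := Nat.prime_two
  have hYd : 2 ^ (val q i + 1) ∣ q ^ h - 1 := (p2.pow_dvd_iff_le_factorization hY).2 hlt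
  have hcop : Nat.Coprime (2 ^ (val q i + 1)) (q ^ h) :=
    Nat.Coprime.pow _ _ ((p2.coprime_iff_not_dvd).2 (by omega))
  apply le_antisymm
  · by_contra hc
    have hd : 2 ^ (val q i + 1) ∣ q ^ (h + i) - 1 :=
      (p2.pow_dvd_iff_le_factorization hZ).2 (show val q i + 1 ≤ val q (h + i) by omega)
    rw [e] at hd
    have := hcop.dvd_of_dvd_mul_left ((Nat.dvd_add_iff_left hYd).2 hd)
    have := (p2.pow_dvd_iff_le_factorization hX).1 this
    unfold val at *
    omega
  · refine (p2.pow_dvd_iff_le_factorization hZ).1 ?_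
    rw [e]
    exact dvd_add (Dvd.dvd.mul_left ((p2.pow_dvd_iff_le_factorization hX).2 le_rfl) _)
      (dvd_trans (pow_dvd_pow 2 (Nat.le_succ _)) hYd)

theorem val_double {q h : ℕ} (hq : q % 2 = 1) (hq2 : 2 ≤ q) (hh : 0 < h) :
    val q h < val q (2 * h) ∧ (h % 2 = 0 → val q (2 * h) = val q h + 1) := by
  have h1 : 1 ≤ q ^ h := Nat.one_le_pow _ _ (by omega)
  have e : q ^ (2 * h) - 1 = (q ^ h - 1) * (q ^ h + 1) := by
    rw [mul_comm 2 h, pow_mul, mul_comm (q ^ h - 1), ← Nat.sq_sub_sq, one_pow]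
  have hodd : q ^ h % 2 = 1 := by simp [Nat.pow_mod, hq]
  unfold val
  rw [e, Nat.factorization_mul (pow_sub_one_ne_zero hq2 hh) (by omega), Finsupp.add_apply]
  have hge : 1 ≤ (q ^ h + 1).factorization 2 :=
    (Nat.prime_two.pow_dvd_iff_le_factorization (by omega)).1 (by omega)
  refine ⟨by omega, fun hev => ?_⟩
  have hlt : (q ^ h + 1).factorization 2 < 2 := by
    by_contra hc
    have h4 : 2 ^ 2 ∣ q ^ h + 1 :=
      (Nat.prime_two.pow_dvd_iff_le_factorization (by omega)).2 (by omega)
    obtain ⟨k, rfl⟩ := Nat.dvd_of_mod_eq_zero hev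
    rw [mul_comm 2 k, pow_mul] at h4
    obtain ⟨c, hc⟩ : ∃ c, q ^ k = 2 * c + 1 := by
      have : q ^ k % 2 = 1 := by simp [Nat.pow_mod, hq]
      exact ⟨q ^ k / 2, by omega⟩
    rw [hc, show (2 * c + 1) ^ 2 + 1 = 2 ^ 2 * (c * c + c) + 2 by ring] at h4
    have := (Nat.dvd_add_right (dvd_mul_right _ _)).1 h4
    omega
  omega

theorem val_lt {q : ℕ} (hq : q % 2 = 1) (hq2 : 2 ≤ q) :
    ∀ j i, 0 < i → i < 2 ^ j → val q i < val q (2 ^ j) := by
  intro j
  induction j with
  | zero => intro i hi hi'; simp at hi'; omega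
  | succ j ih =>
    intro i hi hi'
    have hstep := (val_double hq hq2 (h := 2 ^ j) (pow_pos two_pos j)).1
    rw [pow_succ, mul_comm] at hi' ⊢
    rcases lt_trichotomy i (2 ^ j) with h | h | h
    · exact (ih i hi h).trans hstep
    · rw [h]; exact hstep
    · obtain ⟨k, rfl⟩ := Nat.exists_eq_add_of_lt h
      rw [add_assoc, val_add hq hq2 (Nat.succ_pos k) (pow_pos two_pos j) (ih _ (Nat.succ_pos k) (by omega))]
      exact (ih _ (Nat.succ_pos k) (by omega)).trans hstep

/-- The exponent of two in `|GL_n(q)|`. -/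
noncomputable def valGL (q n : ℕ) : ℕ := ∑ i ∈ Finset.range n, val q (i + 1)

theorem valGL_double {q j : ℕ} (hq : q % 2 = 1) (hq2 : 2 ≤ q) (hj : 0 < j) :
    valGL q (2 * 2 ^ j) = 2 * valGL q (2 ^ j) + 1 := by
  have hpos : 0 < 2 ^ j := pow_pos two_pos j
  obtain ⟨m, hm⟩ : ∃ m, 2 ^ j = m + 1 := ⟨2 ^ j - 1, by omega⟩
  have hev : 2 ^ j % 2 = 0 := by
    obtain ⟨k, rfl⟩ := Nat.exists_eq_add_of_lt hj
    rw [pow_succ]; omega
  unfold valGL
  rw [two_mul (2 ^ j), Finset.sum_range_add, hm, Finset.sum_range_succ (fun x => val q (m + 1 + x + 1)),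
    Finset.sum_range_succ (fun i => val q (i + 1))]
  have e1 : ∀ x ∈ Finset.range m, val q (m + 1 + x + 1) = val q (x + 1) := by
    intro x hx
    rw [Finset.mem_range] at hx
    rw [add_assoc (m + 1) x 1, ← hm]
    exact val_add hq hq2 (Nat.succ_pos x) hpos (val_lt hq hq2 j _ (Nat.succ_pos x) (by omega))
  rw [Finset.sum_congr rfl e1, show m + 1 + m + 1 = 2 * (m + 1) by ring, ← hm,
    (val_double hq hq2 hpos).2 hev]
  omega

/-- The order of `GL` up to an odd factor. -/
theorem factorization_card_GL (hodd : Odd (Fintype.card F)) {I : Type*} [Fintype I] [DecidableEq I] :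
    (Nat.card (GL I F)).factorization 2 = valGL (Fintype.card F) (Fintype.card I) := by
  have e : GL I F ≃* GL (Fin (Fintype.card I)) F :=
    Units.mapEquiv (Matrix.reindexAlgEquiv F F (Fintype.equivFin I)).toMulEquiv
  rw [Nat.card_congr e.toEquiv, Matrix.card_GL_field]
  set n := Fintype.card I
  set q := Fintype.card F
  have hq : q % 2 = 1 := Nat.odd_iff.1 hodd
  have hq2 : 2 ≤ q := Fintype.one_lt_card
  have hterm : ∀ i : Fin n, q ^ n - q ^ (i : ℕ) = q ^ (i : ℕ) * (q ^ (n - i) - 1) := by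
    intro i
    rw [Nat.mul_sub, mul_one, ← pow_add, Nat.add_sub_of_le i.2.le]
  simp only [hterm]
  rw [Nat.factorization_prod_apply]
  · unfold valGL
    rw [Fin.sum_univ_eq_sum_range (fun i => (q ^ i * (q ^ (n - i) - 1)).factorization 2)]
    rw [← Finset.sum_range_reflect]
    refine Finset.sum_congr rfl fun i hi => ?_
    rw [Finset.mem_range] at hi
    rw [Nat.factorization_mul (pow_ne_zero _ (by omega)) (pow_sub_one_ne_zero hq2 (by omega)),
      Finsupp.add_apply, factorization_odd (by simp [Nat.pow_mod, hq]), zero_add,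
      show n - (n - 1 - i) = i + 1 by omega]
    rfl
  · intro i _
    exact mul_ne_zero (pow_ne_zero _ (by omega)) (pow_sub_one_ne_zero hq2 (by have := i.2; omega))

/-! ### Towers -/

section
variable {I : Type*} [Fintype I] [DecidableEq I]

/-- The properties carried up the tower that do not mention an ambient group. -/
structure IsCore (S : Subgroup (GL I F)) : Prop where
  two : IsPGroup 2 S
  neg : (-1 : GL I F) ∈ S
  comm : ∀ X : Matrix I I F, (∀ x ∈ S, (x : GL I F).1.det = 1 → X * x.1 = x.1 * X) →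
    ∃ c : F, X = c • 1
  norm : ∀ g : GL I F, Odd (orderOf g) → (∀ x ∈ S, g * x * g⁻¹ ∈ S) → ∃ c : F, g.1 = c • 1

/-- The properties carried up the tower. -/
structure IsTower (S : Subgroup (GL I F)) : Prop extends IsCore S where
  index_odd : ¬ 2 ∣ S.index

/-- Odd order normalisers of the determinant one part are scalar. -/
def NormDet (S : Subgroup (GL I F)) : Prop :=
  ∀ g : GL I F, Odd (orderOf g) → (∀ x ∈ S, (x : GL I F).1.det = 1 → g * x * g⁻¹ ∈ S) →
    ∃ c : F, g.1 = c • 1

/-- Block diagonal elements. -/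
def blk : GL I F × GL I F →* GL (I ⊕ I) F where
  toFun p := ⟨fromBlocks p.1.1 0 0 p.2.1, fromBlocks (p.1⁻¹).1 0 0 (p.2⁻¹).1,
    by simp [fromBlocks_multiply, fromBlocks_one], by simp [fromBlocks_multiply, fromBlocks_one]⟩
  map_one' := Units.ext (by simp [fromBlocks_one])
  map_mul' p q := Units.ext (by simp [fromBlocks_multiply])

theorem coe_blk (a b : GL I F) : (blk (a, b)).1 = fromBlocks a.1 0 0 b.1 := rfl

/-- The block exchange. -/
def sw : GL (I ⊕ I) F :=
  ⟨fromBlocks 0 1 1 0, fromBlocks 0 1 1 0, by simp [fromBlocks_multiply, fromBlocks_one],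
    by simp [fromBlocks_multiply, fromBlocks_one]⟩

theorem coe_sw : (sw : GL (I ⊕ I) F).1 = fromBlocks 0 1 1 0 := rfl

theorem sw_mul_sw : (sw : GL (I ⊕ I) F) * sw = 1 :=
  Units.ext (by simp [coe_sw, fromBlocks_multiply, fromBlocks_one])

theorem sw_blk (a b : GL I F) : sw * blk (a, b) = blk (b, a) * sw :=
  Units.ext (by simp [coe_sw, coe_blk, fromBlocks_multiply])

theorem blk_sw (a b : GL I F) : (blk (a, b) * sw).1 = fromBlocks 0 a.1 b.1 0 := by
  simp [coe_sw, coe_blk, fromBlocks_multiply]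

theorem det_sw (h : 2 ∣ Fintype.card I) : (sw : GL (I ⊕ I) F).1.det = 1 := by
  have e : (sw : GL (I ⊕ I) F).1 = fromBlocks 1 1 0 1 * fromBlocks 1 0 (-1) 1 *
      fromBlocks 1 1 0 1 * fromBlocks (-1) 0 0 1 := by
    simp [coe_sw, fromBlocks_multiply]
  rw [e, det_mul, det_mul, det_mul, det_fromBlocks_zero₂₁, det_fromBlocks_zero₁₂,
    det_fromBlocks_zero₂₁, det_neg, det_one]
  obtain ⟨k, hk⟩ := h
  simp [hk, pow_mul]

variable {S : Subgroup (GL I F)}

/-- The wreath product with the exchange. -/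
def wreath (S : Subgroup (GL I F)) : Subgroup (GL (I ⊕ I) F) where
  carrier := {g | ∃ x ∈ S, ∃ y ∈ S, g = blk (x, y) ∨ g = blk (x, y) * sw}
  one_mem' := ⟨1, one_mem S, 1, one_mem S, Or.inl (map_one blk).symm⟩
  mul_mem' := by
    rintro _ _ ⟨x, hx, y, hy, rfl | rfl⟩ ⟨x', hx', y', hy', rfl | rfl⟩
    · exact ⟨x * x', mul_mem hx hx', y * y', mul_mem hy hy', Or.inl (map_mul blk _ _).symm⟩
    · exact ⟨x * x', mul_mem hx hx', y * y', mul_mem hy hy', Or.inr (by
        rw [← mul_assoc, ← map_mul, Prod.mk_mul_mk])⟩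
    · exact ⟨x * y', mul_mem hx hy', y * x', mul_mem hy hx', Or.inr (by
        rw [mul_assoc, sw_blk, ← mul_assoc, ← map_mul, Prod.mk_mul_mk])⟩
    · exact ⟨x * y', mul_mem hx hy', y * x', mul_mem hy hx', Or.inl (by
        rw [mul_assoc, ← mul_assoc sw, sw_blk, mul_assoc, sw_mul_sw, mul_one, ← map_mul,
          Prod.mk_mul_mk])⟩
  inv_mem' := by
    rintro _ ⟨x, hx, y, hy, rfl | rfl⟩
    · exact ⟨x⁻¹, inv_mem hx, y⁻¹, inv_mem hy, Or.inl (map_inv blk _).symm⟩
    · refine ⟨y⁻¹, inv_mem hy, x⁻¹, inv_mem hx, Or.inr ?_⟩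
      rw [_root_.mul_inv_rev, ← map_inv, Prod.inv_mk, inv_eq_of_mul_eq_one_right sw_mul_sw, sw_blk]

theorem blk_mem {x y : GL I F} (hx : x ∈ S) (hy : y ∈ S) : blk (x, y) ∈ wreath S :=
  ⟨x, hx, y, hy, Or.inl rfl⟩

theorem sw_mem : sw ∈ wreath S :=
  ⟨1, one_mem S, 1, one_mem S, Or.inr (by rw [show ((1, 1) : GL I F × GL I F) = 1 from rfl, map_one, one_mul])⟩

theorem card_wreath [Nonempty I] :
    Nat.card (wreath S) = 2 * (Nat.card S * Nat.card S) := by
  let f : (S × S) × Bool → wreath S := fun p =>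
    ⟨cond p.2 (blk (p.1.1.1, p.1.2.1) * sw) (blk (p.1.1.1, p.1.2.1)), by
      cases p.2
      · exact ⟨_, p.1.1.2, _, p.1.2.2, Or.inl rfl⟩
      · exact ⟨_, p.1.1.2, _, p.1.2.2, Or.inr rfl⟩⟩
  have hf : Function.Bijective f := by
    constructor
    · rintro ⟨⟨⟨a, ha⟩, ⟨b, hb⟩⟩, s⟩ ⟨⟨⟨a', ha'⟩, ⟨b', hb'⟩⟩, s'⟩ h
      have h' : (f ⟨⟨⟨a, ha⟩, ⟨b, hb⟩⟩, s⟩).1.1 = (f ⟨⟨⟨a', ha'⟩, ⟨b', hb'⟩⟩, s'⟩).1.1 := by rw [h]
      cases s <;> cases s' <;> simp only [f, cond_true, cond_false, coe_blk, blk_sw] at h' <;>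
        obtain ⟨e1, e2, e3, e4⟩ := fromBlocks_inj.1 h'
      · rw [Units.val_inj] at e1 e4; subst e1 e4; rfl
      · exact absurd e1 a.ne_zero
      · exact absurd e1.symm a'.ne_zero
      · rw [Units.val_inj] at e2 e3; subst e2 e3; rfl
    · rintro ⟨g, x, hx, y, hy, rfl | rfl⟩
      · exact ⟨⟨⟨⟨x, hx⟩, ⟨y, hy⟩⟩, false⟩, rfl⟩
      · exact ⟨⟨⟨⟨x, hx⟩, ⟨y, hy⟩⟩, true⟩, rfl⟩
  rw [← Nat.card_congr (Equiv.ofBijective f hf)]
  simp [mul_comm]

theorem eq_of_scalar {g : GL I F} {c : F} (h : g.1 = c • 1) (X : Matrix I I F) : g.1 * X = X * g.1 := by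
  rw [h]; simp

/-- The wreath step. -/
theorem IsCore.step (hodd : Odd (Fintype.card F)) (hev : 2 ∣ Fintype.card I) [Nonempty I]
    (hS : IsCore S) : IsCore (wreath S) ∧ NormDet (wreath S) := by
  haveI : Fact (Nat.Prime 2) := ⟨Nat.prime_two⟩
  haveI : Nontrivial I := Fintype.one_lt_card_iff_nontrivial.1
    (lt_of_lt_of_le one_lt_two (Nat.le_of_dvd Fintype.card_pos hev))
  have h2 : (2 : F) ≠ 0 := Linear.two_ne_zero_of_odd hodd
  have hdetneg : (-1 : GL I F).1.det = 1 := by
    obtain ⟨k, hk⟩ := hev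
    rw [Units.val_neg, Units.val_one, det_neg, det_one, hk, pow_mul]; simp
  have hne1 : (-1 : Matrix I I F) ≠ 1 := fun e => by
    obtain ⟨i⟩ := (inferInstance : Nonempty I)
    have := congrFun (congrFun e i) i
    simp at this
    exact h2 (by linear_combination -this)
  -- the involution separating the blocks
  set z : GL (I ⊕ I) F := blk (1, -1) with hz
  have hzS : z ∈ wreath S := blk_mem (one_mem S) hS.neg
  have hzd : z.1.det = 1 := by
    rw [hz, coe_blk, det_fromBlocks_zero₂₁, hdetneg, Units.val_one, det_one, one_mul]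
  have one_blk : ∀ x : GL I F, x.1.det = 1 → (blk (x, (1 : GL I F))).1.det = 1 ∧
      (blk ((1 : GL I F), x)).1.det = 1 := fun x hx => by
    constructor <;> rw [coe_blk, det_fromBlocks_zero₂₁] <;> simp [hx]
  have diag_of_comm : ∀ X : Matrix (I ⊕ I) (I ⊕ I) F, X * z.1 = z.1 * X →
      X = fromBlocks X.toBlocks₁₁ 0 0 X.toBlocks₂₂ := by
    intro X h
    have e := h
    rw [← fromBlocks_toBlocks X, hz, coe_blk] at e
    simp [fromBlocks_multiply] at e
    obtain ⟨e2, e3⟩ := e
    have half : ∀ M : Matrix I I F, -M = M → M = 0 := fun M hM => by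
      ext a b
      have := congrFun (congrFun hM a) b
      simp at this
      have h0 : (2 : F) * M a b = 0 := by linear_combination -this
      simpa [h2] using h0
    conv_lhs => rw [← fromBlocks_toBlocks X]
    rw [half X.toBlocks₁₂ (by first | exact e2 | exact e2.symm), half X.toBlocks₂₁ (by first | exact e3 | exact e3.symm)]
  have comm' : ∀ X : Matrix (I ⊕ I) (I ⊕ I) F,
      (∀ x ∈ wreath S, (x : GL (I ⊕ I) F).1.det = 1 → X * x.1 = x.1 * X) → ∃ c : F, X = c • 1 := by
    intro X hX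
    have hd := diag_of_comm X (hX z hzS hzd)
    obtain ⟨a, ha⟩ := hS.comm X.toBlocks₁₁ fun x hx hxd => by
      have e := hX _ (blk_mem hx (one_mem S)) (one_blk x hxd).1
      rw [hd, coe_blk] at e
      simp [fromBlocks_multiply] at e
      exact e
    obtain ⟨b, hb⟩ := hS.comm X.toBlocks₂₂ fun x hx hxd => by
      have e := hX _ (blk_mem (one_mem S) hx) (one_blk x hxd).2
      rw [hd, coe_blk] at e
      simp [fromBlocks_multiply] at e
      exact e
    have e := hX _ sw_mem (det_sw hev)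
    rw [hd, coe_sw, ha, hb] at e
    simp [fromBlocks_multiply] at e
    have hab : a = b := by
      obtain ⟨i⟩ := (inferInstance : Nonempty I)
      exact e.1
    refine ⟨a, ?_⟩
    rw [hd, ha, hb, ← hab, ← fromBlocks_one, fromBlocks_smul, smul_zero]
  have hnd : NormDet (wreath S) := by
    intro g hg hgS
    -- conjugates of elements of determinant one stay so
    have hdet : ∀ x : GL (I ⊕ I) F, (g * x * g⁻¹).1.det = x.1.det := fun x => by
      rw [Units.val_mul, Units.val_mul, Matrix.det_mul_right_comm, ← Units.val_mul, mul_inv_cancel,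
        Units.val_one, Matrix.one_mul]
    have surj : ∀ x ∈ wreath S, x.1.det = 1 → ∃ y ∈ wreath S, y.1.det = 1 ∧ g * y * g⁻¹ = x := by
      intro x hx hxd
      let f : {y : GL (I ⊕ I) F // y ∈ wreath S ∧ y.1.det = 1} →
          {y : GL (I ⊕ I) F // y ∈ wreath S ∧ y.1.det = 1} := fun y =>
        ⟨g * y.1 * g⁻¹, hgS _ y.2.1 y.2.2, by rw [hdet]; exact y.2.2⟩
      have hf : Function.Injective f := fun a b h => Subtype.ext (by
        simpa [f] using congrArg Subtype.val h)
      obtain ⟨y, hy⟩ := Finite.injective_iff_surjective.1 hf ⟨x, hx, hxd⟩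
      exact ⟨y.1, y.2.1, y.2.2, congrArg Subtype.val hy⟩
    set w := g * z * g⁻¹ with hw
    have hwS : w ∈ wreath S := hgS z hzS hzd
    have hwd : w.1.det = 1 := by rw [hdet, hzd]
    have hneg : (g * (-1) * g⁻¹ : GL (I ⊕ I) F) = -1 := by simp
    have hzc : ∀ y ∈ wreath S, z * y = y * z ∨ z * y = -(y * z) := by
      rintro y ⟨a, ha, b, hb, rfl | rfl⟩
      · left; apply Units.ext; simp [hz, coe_blk, fromBlocks_multiply]
      · right
        apply Units.ext
        rw [Units.val_mul, blk_sw, Units.val_neg, Units.val_mul, blk_sw, hz, coe_blk]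
        simp [fromBlocks_multiply, fromBlocks_neg]
    have hwc : ∀ x ∈ wreath S, x.1.det = 1 → w * x = x * w ∨ w * x = -(x * w) := by
      intro x hx hxd
      obtain ⟨y, hy, -, rfl⟩ := surj x hx hxd
      have h1 : w * (g * y * g⁻¹) = g * (z * y) * g⁻¹ := by rw [hw]; group
      have h2 : (g * y * g⁻¹) * w = g * (y * z) * g⁻¹ := by rw [hw]; group
      rcases hzc y hy with h | h
      · left; rw [h1, h2, h]
      · right; rw [h1, h2, h, mul_neg, neg_mul]
    have hex : ∃ x ∈ S, x.1.det = 1 ∧ x.1 ≠ 1 ∧ x.1 ≠ -1 := by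
      by_contra h
      simp only [not_exists, not_and] at h
      obtain ⟨a, b, hab⟩ := exists_pair_ne I
      obtain ⟨c, hc⟩ := hS.comm (Matrix.single a b 1) fun x hx hxd => by
        by_cases h1 : x.1 = 1
        · rw [h1, Matrix.mul_one, Matrix.one_mul]
        · rw [not_not.1 (h x hx hxd h1), Matrix.mul_neg, Matrix.neg_mul, Matrix.mul_one, Matrix.one_mul]
      have := congrFun (congrFun hc a) b
      simp [Matrix.one_apply, hab] at this
    have hz1 : z ≠ 1 ∧ z ≠ -1 := by
      constructor <;> intro e <;> have e' := congrArg (fun u : GL (I ⊕ I) F => u.1) e <;>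
        simp [hz, coe_blk, ← fromBlocks_one, fromBlocks_neg, fromBlocks_inj] at e' <;>
        first | exact hne1 e' | exact hne1 e'.symm
    have hwz : w = z ∨ w = -z := by
      have hw1 : w ≠ 1 := fun e => hz1.1 (by rwa [hw, conj_eq_one_iff] at e)
      have hw2 : w ≠ -1 := fun e => hz1.2 (by
        rw [← hneg, hw] at e; exact mul_left_cancel (mul_right_cancel e))
      have hww : w * w = 1 := by
        rw [hw, show g * z * g⁻¹ * (g * z * g⁻¹) = g * (z * z) * g⁻¹ by group, hz, ← map_mul]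
        simp
        exact map_one blk
      obtain ⟨a, ha, b, hb, hab | hab⟩ := hwS
      · -- the blocks are scalars of square one
        have key : ∀ x ∈ S, x.1.det = 1 → a.1 * x.1 = x.1 * a.1 ∧ b.1 * x.1 = x.1 * b.1 := by
          intro x hx hxd
          have f1 := hwc _ (blk_mem hx (one_mem S)) (one_blk x hxd).1
          have f2 := hwc _ (blk_mem (one_mem S) hx) (one_blk x hxd).2
          have noneg : ∀ u : GL I F, u.1 ≠ -u.1 := fun u e => by
            have h0 : (2 : F) • u.1 = 0 := by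
              rw [two_smul]; nth_rewrite 2 [e]; exact add_neg_cancel _
            exact u.ne_zero ((smul_eq_zero.1 h0).resolve_left h2)
          constructor
          · rcases f1 with e | e <;> have e' := congrArg (fun u : GL (I ⊕ I) F => u.1) e <;>
              simp [hab, coe_blk, fromBlocks_multiply, fromBlocks_neg, fromBlocks_inj] at e'
            · exact e'
            · exact absurd e'.2 (noneg b)
          · rcases f2 with e | e <;> have e' := congrArg (fun u : GL (I ⊕ I) F => u.1) e <;>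
              simp [hab, coe_blk, fromBlocks_multiply, fromBlocks_neg, fromBlocks_inj] at e'
            · exact e'
            · exact absurd e'.1 (noneg a)
        obtain ⟨α, hα⟩ := hS.comm a.1 fun x hx hxd => (key x hx hxd).1
        obtain ⟨β, hβ⟩ := hS.comm b.1 fun x hx hxd => (key x hx hxd).2
        have sq : α ^ 2 = 1 ∧ β ^ 2 = 1 := by
          have e := congrArg (fun u : GL (I ⊕ I) F => u.1) hww
          simp [hab, coe_blk, hα, hβ, fromBlocks_multiply, ← fromBlocks_one, fromBlocks_inj,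
            smul_smul] at e
          obtain ⟨i⟩ := (inferInstance : Nonempty I)
          constructor
          · have := congrFun (congrFun e.1 i) i
            simp at this; linear_combination this
          · have := congrFun (congrFun e.2 i) i
            simp at this; linear_combination this
        rcases sq_eq_one_iff.1 sq.1 with rfl | rfl <;> rcases sq_eq_one_iff.1 sq.2 with rfl | rfl
        · exact absurd (Units.ext (by simp [hab, coe_blk, hα, hβ, fromBlocks_one])) hw1
        · left; rw [hab]; apply Units.ext; simp [hz, coe_blk, hα, hβ]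
        · right; rw [hab]; apply Units.ext; simp [hz, coe_blk, hα, hβ, fromBlocks_neg]
        · exact absurd (Units.ext (by simp [hab, coe_blk, hα, hβ, ← fromBlocks_one, fromBlocks_neg])) hw2
      · exfalso
        obtain ⟨x, hx, hxd, hx1, hx2⟩ := hex
        have f := hwc _ (blk_mem hx (one_mem S)) (one_blk x hxd).1
        rcases f with e | e <;> have e' := congrArg (fun u : GL (I ⊕ I) F => u.1) e <;>
          rw [hab] at e' <;> simp only [Units.val_mul, Units.val_neg] at e' <;>
          rw [← Units.val_mul, blk_sw, coe_blk] at e' <;>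
          simp [fromBlocks_multiply, fromBlocks_neg, fromBlocks_inj] at e'
        · have h' : x.1 * a.1 = 1 * a.1 := by rw [one_mul]; first | exact e'.1.symm | exact e'.1
          exact hx1 (by simpa using congrArg (fun M => M * (a⁻¹).1) h')
        · have h' : x.1 * a.1 = (-1) * a.1 := by
            rw [neg_one_mul]
            first | exact (neg_eq_iff_eq_neg.1 e'.1.symm) | exact (neg_eq_iff_eq_neg.1 e'.1)
          exact hx2 (by simpa using congrArg (fun M => M * (a⁻¹).1) h')
    -- so `g` commutes with `z`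
    have hgz : g * z = z * g := by
      rcases hwz with e | e
      · rw [hw, mul_inv_eq_iff_eq_mul] at e; exact e
      · rw [hw, mul_inv_eq_iff_eq_mul] at e
        have hc : Commute (g ^ 2) z := by
          show g ^ 2 * z = z * g ^ 2
          rw [pow_two, mul_assoc, e, neg_mul, mul_neg, ← mul_assoc, e, neg_mul, neg_mul, neg_neg, mul_assoc]
        obtain ⟨k, hk⟩ := hg
        have hgk : g = (g ^ 2) ^ (k + 1) := by
          rw [← pow_mul, show 2 * (k + 1) = orderOf g + 1 by omega, pow_succ, pow_orderOf_eq_one, one_mul]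
        rw [hgk]; exact hc.pow_left _
    have hgd := diag_of_comm g.1 (by rw [← Units.val_mul, hgz, Units.val_mul])
    set A := g.1.toBlocks₁₁
    set B := g.1.toBlocks₂₂
    have hu : IsUnit A.det ∧ IsUnit B.det := by
      have h : IsUnit g.1.det := (Matrix.isUnit_iff_isUnit_det _).1 g.isUnit
      rw [hgd, det_fromBlocks_zero₂₁] at h
      exact IsUnit.mul_iff.1 h
    set a := GeneralLinearGroup.mk'' A hu.1
    set b := GeneralLinearGroup.mk'' B hu.2
    have hgab : g = blk (a, b) := Units.ext hgd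
    have hord : Odd (orderOf a) ∧ Odd (orderOf b) := by
      have h : ((a, b) : GL I F × GL I F) ^ orderOf g = 1 := by
        have hinj : Function.Injective (blk (F := F) (I := I)) := fun p p' e => by
          obtain ⟨p1, p2⟩ := p
          obtain ⟨p1', p2'⟩ := p'
          have e' := congrArg (fun u : GL (I ⊕ I) F => u.1) e
          simp only [coe_blk] at e'
          obtain ⟨e1, -, -, e4⟩ := fromBlocks_inj.1 e'
          rw [Units.val_inj] at e1 e4
          rw [e1, e4]
        apply hinj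
        rw [map_pow, ← hgab, pow_orderOf_eq_one, map_one]
      exact ⟨hg.of_dvd_nat (orderOf_dvd_of_pow_eq_one (congrArg Prod.fst h)),
        hg.of_dvd_nat (orderOf_dvd_of_pow_eq_one (congrArg Prod.snd h))⟩
    have hblock : ∀ x ∈ S, a * x * a⁻¹ ∈ S ∧ b * x * b⁻¹ ∈ S := by
      intro x hx
      have hd1 : (blk (x, x⁻¹)).1.det = 1 := by
        rw [coe_blk, det_fromBlocks_zero₂₁, ← det_mul, ← Units.val_mul, mul_inv_cancel, Units.val_one, det_one]
      have hd2 : (blk (x⁻¹, x)).1.det = 1 := by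
        rw [coe_blk, det_fromBlocks_zero₂₁, ← det_mul, ← Units.val_mul, inv_mul_cancel, Units.val_one, det_one]
      have get : ∀ p q : GL I F, (blk (p, q)).1.det = 1 → p ∈ S → q ∈ S →
          a * p * a⁻¹ ∈ S ∧ b * q * b⁻¹ ∈ S := by
        intro p q hpq hp hq
        obtain ⟨u, hu, v, hv, e | e⟩ := hgS _ (blk_mem hp hq) hpq <;>
          rw [hgab, ← map_inv, ← map_mul, ← map_mul, Prod.inv_mk, Prod.mk_mul_mk, Prod.mk_mul_mk] at e <;>
          have e' := congrArg (fun u : GL (I ⊕ I) F => u.1) e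
        · simp only [coe_blk] at e'
          obtain ⟨e1, -, -, e4⟩ := fromBlocks_inj.1 e'
          rw [Units.val_inj] at e1 e4
          exact ⟨e1 ▸ hu, e4 ▸ hv⟩
        · simp only [coe_blk, blk_sw] at e'
          exact absurd (fromBlocks_inj.1 e').1 (a * p * a⁻¹).ne_zero
      exact ⟨(get x x⁻¹ hd1 hx (inv_mem hx)).1, (get x⁻¹ x hd2 (inv_mem hx) hx).2⟩
    obtain ⟨α, hα⟩ := hS.norm a hord.1 fun x hx => (hblock x hx).1
    obtain ⟨β, hβ⟩ := hS.norm b hord.2 fun x hx => (hblock x hx).2
    -- comparing through the exchange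
    have hc : a * b⁻¹ = 1 := by
      obtain ⟨u, hu', v, hv, e | e⟩ := hgS sw sw_mem (det_sw hev) <;>
        rw [hgab, ← map_inv, Prod.inv_mk, mul_assoc, sw_blk, ← mul_assoc, ← map_mul, Prod.mk_mul_mk] at e <;>
        have e' := congrArg (fun u : GL (I ⊕ I) F => u.1) e
      · simp only [coe_blk, blk_sw] at e'
        exact absurd (fromBlocks_inj.1 e').1.symm u.ne_zero
      · simp only [blk_sw] at e'
        obtain ⟨-, e2, -, -⟩ := fromBlocks_inj.1 e'
        rw [Units.val_inj] at e2
        obtain ⟨k, hk⟩ := hS.two ⟨u, hu'⟩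
        have hk' : (a * b⁻¹) ^ 2 ^ k = 1 := by rw [e2]; exact congrArg Subtype.val hk
        have hcm : Commute a b⁻¹ := Units.ext (eq_of_scalar hα _)
        have ho : (a * b⁻¹) ^ (orderOf a * orderOf b) = 1 := by
          rw [hcm.mul_pow, pow_mul, pow_orderOf_eq_one, one_pow, mul_comm (orderOf a), pow_mul,
            inv_pow, pow_orderOf_eq_one, inv_one, one_pow, one_mul]
        have hd := Nat.dvd_gcd (orderOf_dvd_of_pow_eq_one hk') (orderOf_dvd_of_pow_eq_one ho)
        rw [Nat.Coprime.gcd_eq_one (Nat.Coprime.pow_left k ((Nat.coprime_two_left).2 (hord.1.mul hord.2))),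
          Nat.dvd_one] at hd
        exact orderOf_eq_one_iff.1 hd
    rw [mul_inv_eq_one] at hc
    refine ⟨α, ?_⟩
    have hB : B = α • (1 : Matrix I I F) := by
      have : b.1 = a.1 := by rw [hc]
      rw [show B = b.1 from rfl, this, hα]
    rw [hgd, hB, show A = a.1 from rfl, hα, ← fromBlocks_one, fromBlocks_smul, smul_zero]
  refine ⟨⟨?_, ?_, comm', fun g hg h => hnd g hg fun x hx _ => h x hx⟩, hnd⟩
  · obtain ⟨k, hk⟩ := IsPGroup.iff_card.1 hS.two
    exact IsPGroup.of_card (n := k + k + 1) (by rw [card_wreath, hk]; ring)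
  · refine ⟨-1, hS.neg, -1, hS.neg, Or.inl (Units.ext ?_)⟩
    simp [coe_blk, ← fromBlocks_one, fromBlocks_neg]

/-- The wreath step with the index. -/
theorem IsTower.step (hodd : Odd (Fintype.card F)) {j : ℕ} (hj : 0 < j) (hI : Fintype.card I = 2 ^ j)
    (hS : IsTower S) : IsTower (wreath S) ∧ NormDet (wreath S) := by
  haveI : Fact (Nat.Prime 2) := ⟨Nat.prime_two⟩
  haveI : Nonempty I := Fintype.card_pos_iff.1 (by rw [hI]; exact pow_pos two_pos j)
  obtain ⟨h1, h2⟩ := hS.toIsCore.step hodd (hI ▸ dvd_pow_self 2 hj.ne')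
  refine ⟨⟨h1, ?_⟩, h2⟩
  intro hd
  have hq : Fintype.card F % 2 = 1 := Nat.odd_iff.1 hodd
  have hcS := congrArg (fun m : ℕ => m.factorization 2) S.card_mul_index
  have hcW := congrArg (fun m : ℕ => m.factorization 2) (wreath S).card_mul_index
  simp only [Nat.factorization_mul Nat.card_pos.ne' Subgroup.index_ne_zero_of_finite,
    Finsupp.add_apply, factorization_card_GL hodd] at hcS hcW
  rw [card_wreath, Nat.factorization_mul two_ne_zero (mul_ne_zero Nat.card_pos.ne' Nat.card_pos.ne'),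
    Finsupp.add_apply, Nat.factorization_mul Nat.card_pos.ne' Nat.card_pos.ne', Finsupp.add_apply,
    Nat.Prime.factorization_self Nat.prime_two, Fintype.card_sum, hI, ← two_mul (2 ^ j),
    valGL_double hq Fintype.one_lt_card hj] at hcW
  rw [hI] at hcS
  have h0 : S.index.factorization 2 = 0 := Nat.factorization_eq_zero_of_not_dvd hS.index_odd
  have h1 : 0 < (wreath S).index.factorization 2 :=
    Nat.Prime.factorization_pos_of_dvd Nat.prime_two Subgroup.index_ne_zero_of_finite hd
  omega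

/-- Transport along a bijection of the index types. -/
theorem IsCore.map {J : Type*} [Fintype J] [DecidableEq J] (e : I ≃ J)
    (hS : IsCore S) (hN : NormDet S) :
    IsCore (S.map (Units.mapEquiv (Matrix.reindexAlgEquiv F F e).toMulEquiv : GL I F ≃* GL J F).toMonoidHom) ∧
      NormDet (S.map (Units.mapEquiv (Matrix.reindexAlgEquiv F F e).toMulEquiv : GL I F ≃* GL J F).toMonoidHom) := by
  set φ : GL I F ≃* GL J F := Units.mapEquiv (Matrix.reindexAlgEquiv F F e).toMulEquiv
  have hφ : ∀ x : GL I F, (φ x).1 = Matrix.reindexAlgEquiv F F e x.1 := fun x => rfl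
  have hdet : ∀ x : GL I F, (φ x).1.det = x.1.det := fun x => by
    rw [hφ]; exact Matrix.det_reindexAlgEquiv F F e x.1
  have hsc : ∀ g : GL J F, ∀ c : F, (φ.symm g).1 = c • 1 → g.1 = c • 1 := fun g c h => by
    rw [← φ.apply_symm_apply g, hφ, h, map_smul, map_one]
  have hmem : ∀ x : GL J F, x ∈ S.map φ.toMonoidHom ↔ φ.symm x ∈ S := fun x =>
    Subgroup.mem_map_equiv
  have hord : ∀ g : GL J F, orderOf (φ.symm g) = orderOf g := fun g => MulEquiv.orderOf_eq _ g
  refine ⟨⟨hS.two.map _, ?_, ?_, ?_⟩, ?_⟩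
  · rw [hmem, show φ.symm (-1) = -1 from φ.injective (by
      rw [φ.apply_symm_apply]; apply Units.ext; rw [hφ, Units.val_neg, Units.val_one, Units.val_neg, Units.val_one, map_neg, map_one])]
    exact hS.neg
  · intro X hX
    obtain ⟨c, hc⟩ := hS.comm ((Matrix.reindexAlgEquiv F F e).symm X) fun x hx hxd => by
      have := hX (φ x) ((hmem _).2 (by rwa [φ.symm_apply_apply])) (by rwa [hdet])
      rw [hφ] at this
      have := congrArg (Matrix.reindexAlgEquiv F F e).symm this
      rwa [map_mul, map_mul, AlgEquiv.symm_apply_apply] at this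
    refine ⟨c, ?_⟩
    have := congrArg (Matrix.reindexAlgEquiv F F e) hc
    rwa [AlgEquiv.apply_symm_apply, map_smul, map_one] at this
  · intro g hg h
    obtain ⟨c, hc⟩ := hS.norm (φ.symm g) (by rwa [hord]) fun x hx => by
      have := (hmem _).1 (h (φ x) ((hmem _).2 (by rwa [φ.symm_apply_apply])))
      simpa using this
    exact ⟨c, hsc g c hc⟩
  · intro g hg h
    obtain ⟨c, hc⟩ := hN (φ.symm g) (by rwa [hord]) fun x hx hxd => by
      have := (hmem _).1 (h (φ x) ((hmem _).2 (by rwa [φ.symm_apply_apply])) (by rwa [hdet]))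
      simpa using this
    exact ⟨c, hsc g c hc⟩

/-- Transport with the index. -/
theorem transport {J : Type*} [Fintype J] [DecidableEq J] (e : I ≃ J)
    (hS : IsTower S) (hN : NormDet S) :
    ∃ T : Subgroup (GL J F), IsTower T ∧ NormDet T := by
  set φ : GL I F ≃* GL J F := Units.mapEquiv (Matrix.reindexAlgEquiv F F e).toMulEquiv
  obtain ⟨h1, h2⟩ := hS.toIsCore.map e hN
  refine ⟨S.map φ.toMonoidHom, ⟨h1, ?_⟩, h2⟩
  show ¬ 2 ∣ (S.map (φ : GL I F →* GL J F)).index
  rw [Subgroup.index_map_equiv S φ]; exact hS.index_odd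

end

/-- The base of the tower. -/
theorem base (hodd : Odd (Fintype.card F)) :
    ∃ S : Subgroup (GL (Fin 2) F), IsTower S := by
  haveI : Fact (Nat.Prime 2) := ⟨Nat.prime_two⟩
  open CfsgLib.FusionSub.GLTwo in
  obtain ⟨P, hw, hΔ⟩ := exists_sylow (F := F) hodd
  have h2 : (2 : F) ≠ 0 := Linear.two_ne_zero_of_odd hodd
  have hneg : orderOf (-1 : Fˣ) = 2 ^ 1 := by
    rw [pow_one]
    refine orderOf_eq_prime (by simp) fun e => ?_
    have := congrArg Units.val e
    simp at this
    exact h2 (by linear_combination -this)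
  have hone : ∃ k : ℕ, orderOf (1 : Fˣ) = 2 ^ k := ⟨0, by simp⟩
  have hD1 := hΔ (-1) 1 ⟨1, hneg⟩ hone
  have hD2 := hΔ (-1) (-1) ⟨1, hneg⟩ ⟨1, hneg⟩
  open CfsgLib.FusionSub.GLTwo in
  refine ⟨P, ⟨P.isPGroup', ?_, ?_, ?_⟩, P.not_dvd_index⟩
  · rwa [show (-1 : GL (Fin 2) F) = Δ (-1, -1) from Units.ext (by
      ext i j; fin_cases i <;> fin_cases j <;> simp [coe_Δ])]
  · intro X hX
    obtain ⟨m, hm, ⟨e⟩⟩ := inc_preimage_quaternion (F := F) hodd P
    haveI : NeZero (2 ^ m) := ⟨pow_ne_zero _ two_ne_zero⟩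
    haveI : Fact (1 < 2 * 2 ^ m) := ⟨by have := Nat.one_le_two_pow (n := m); omega⟩
    -- the element `J`
    let J : Matrix.SpecialLinearGroup (Fin 2) F := ⟨!![0, 1; -1, 0], by simp [Matrix.det_fin_two]⟩
    have hJ : inc J = FusionSub.GLTwo.swap * Δ (-1, 1) := by
      apply Units.ext
      show !![(0 : F), 1; -1, 0] = _
      rw [Units.val_mul, coe_swap, coe_Δ]
      ext i j; fin_cases i <;> fin_cases j <;> simp [Matrix.mul_apply]
    have hJP : J ∈ (P : Subgroup (GL (Fin 2) F)).comap inc := by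
      rw [Subgroup.mem_comap, hJ]; exact mul_mem hw hD1
    obtain ⟨y, hy⟩ : ∃ y : (P : Subgroup (GL (Fin 2) F)).comap inc, ⟨J, hJP⟩ * y ≠ y * ⟨J, hJP⟩ := by
      by_contra h
      simp only [not_exists, not_not] at h
      have hc : ∀ u, e ⟨J, hJP⟩ * u = u * e ⟨J, hJP⟩ := fun u => by
        have := congrArg e (h (e.symm u))
        simpa using this
      cases hq : e ⟨J, hJP⟩ with
      | a l =>
        have := hc (QuaternionGroup.xa 0)
        rw [hq, QuaternionGroup.a_mul_xa, QuaternionGroup.xa_mul_a, QuaternionGroup.xa.injEq] at this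
        have hsq : e (⟨J, hJP⟩ * ⟨J, hJP⟩) = 1 := by
          rw [map_mul, hq, QuaternionGroup.a_mul_a, QuaternionGroup.one_def]
          congr 1
          linear_combination -this
        rw [← map_one e] at hsq
        have := congrArg (fun v => (v.1 : Matrix.SpecialLinearGroup (Fin 2) F).1 0 0) (e.injective hsq)
        change (!![0, 1; -1, 0] * !![0, 1; -1, 0] : Matrix (Fin 2) (Fin 2) F) 0 0 = (1 : Matrix (Fin 2) (Fin 2) F) 0 0 at this
        simp [Matrix.mul_apply] at this
        exact h2 (by linear_combination -this)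
      | xa l =>
        have := hc (QuaternionGroup.a 1)
        rw [hq, QuaternionGroup.a_mul_xa, QuaternionGroup.xa_mul_a, QuaternionGroup.xa.injEq] at this
        have hm2 : (2 : ZMod (2 * 2 ^ m)) = 0 := by linear_combination this
        have hd := (ZMod.natCast_eq_zero_iff 2 (2 * 2 ^ m)).1 (by exact_mod_cast hm2)
        have := Nat.le_of_dvd two_pos hd
        have := Nat.pow_le_pow_right two_pos hm
        omega
    have hyP : inc y.1 ∈ (P : Subgroup (GL (Fin 2) F)) := y.2
    have h1 := hX _ (Subgroup.mem_comap.1 hJP) J.2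
    have h2' := hX _ hyP y.1.2
    have hne : J.1 * y.1.1 ≠ y.1.1 * J.1 := fun h => hy (Subtype.ext (Subtype.ext h))
    refine ⟨X 0 0, ?_⟩
    change X * (!![0, 1; -1, 0] : Matrix (Fin 2) (Fin 2) F) = !![0, 1; -1, 0] * X at h1
    have h00 := congrFun (congrFun h1 0) 0
    have h01 := congrFun (congrFun h1 0) 1
    have hX' : X = !![X 0 0, X 0 1; -X 0 1, X 0 0] := by
      simp [J, Matrix.mul_apply] at h00 h01
      ext i j; fin_cases i <;> fin_cases j <;> simp
      all_goals first | linear_combination -h00 | linear_combination h00 | linear_combination -h01 | linear_combination h01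
    by_cases hb : X 0 1 = 0
    · conv_lhs => rw [hX', hb]
      ext i j; fin_cases i <;> fin_cases j <;> simp
    · exfalso
      apply hne
      have hXJ : X = X 0 0 • (1 : Matrix (Fin 2) (Fin 2) F) + X 0 1 • J.1 := by
        conv_lhs => rw [hX']
        ext i j; fin_cases i <;> fin_cases j <;> simp [J]
      change X * y.1.1 = y.1.1 * X at h2'
      rw [hXJ, Matrix.add_mul, Matrix.mul_add, Matrix.smul_mul, Matrix.mul_smul, Matrix.smul_mul,
        Matrix.mul_smul, Matrix.one_mul, Matrix.mul_one] at h2'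
      exact smul_right_injective _ hb (add_left_cancel h2')
  · intro g hg h
    have hgN : g ∈ Subgroup.normalizer ((P : Subgroup (GL (Fin 2) F)) : Set (GL (Fin 2) F)) := by
      rw [Subgroup.mem_normalizer_iff]
      intro x
      refine ⟨h x, fun hx => ?_⟩
      let f : ↥(P : Subgroup (GL (Fin 2) F)) → ↥(P : Subgroup (GL (Fin 2) F)) := fun u => ⟨g * (u : GL (Fin 2) F) * g⁻¹, h (u : GL (Fin 2) F) u.2⟩
      have hf : Function.Injective f := fun a b e => Subtype.ext (by simpa [f] using congrArg Subtype.val e)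
      obtain ⟨u, hu⟩ := Finite.injective_iff_surjective.1 hf ⟨_, hx⟩
      have e := congrArg Subtype.val hu
      simp [f] at e
      exact e ▸ u.2
    obtain ⟨k, hk⟩ := isPGroup_mulAut hodd P hw hΔ ((P : Subgroup (GL (Fin 2) F)).normalizerMonoidHom ⟨g, hgN⟩)
    rw [← map_pow] at hk
    have hfix : ∀ x ∈ (P : Subgroup (GL (Fin 2) F)), Commute (g ^ 2 ^ k) x := fun x hx => by
      have h1 : g ^ 2 ^ k * x * (g ^ 2 ^ k)⁻¹ = x :=
        congrArg Subtype.val (DFunLike.congr_fun hk (⟨x, hx⟩ : (P : Subgroup (GL (Fin 2) F))))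
      exact mul_inv_eq_iff_eq_mul.1 h1
    have hgz : g ∈ Subgroup.zpowers (g ^ 2 ^ k) :=
      mem_zpowers_pow_iff.2 ((Nat.coprime_two_left.2 hg).pow_left k)
    have hcom : ∀ x ∈ (P : Subgroup (GL (Fin 2) F)), g * x = x * g := fun x hx => by
      obtain ⟨l, hl⟩ := Subgroup.mem_zpowers_iff.1 hgz
      rw [← hl]; exact (hfix x hx).zpow_left l
    have e1 := congrArg (fun u : GL (Fin 2) F => u.1) (hcom _ hw)
    have e2 := congrArg (fun u : GL (Fin 2) F => u.1) (hcom _ hD1)
    simp only [Units.val_mul, coe_swap, coe_Δ] at e1 e2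
    refine ⟨g.1 0 0, ?_⟩
    have f1 := congrFun (congrFun e1 0) 1
    have f2 := congrFun (congrFun e2 0) 1
    have f3 := congrFun (congrFun e2 1) 0
    simp [Matrix.mul_apply] at f1 f2 f3
    have g01 : g.1 0 1 = 0 := by
      have : (2 : F) * g.1 0 1 = 0 := by first | linear_combination f2 | linear_combination -f2
      simpa [h2] using this
    have g10 : g.1 1 0 = 0 := by
      have : (2 : F) * g.1 1 0 = 0 := by first | linear_combination f3 | linear_combination -f3
      simpa [h2] using this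
    ext i j; fin_cases i <;> fin_cases j <;> simp [g01, g10]
    first | exact f1.symm | exact f1 | linear_combination f1 | linear_combination -f1

/-- Every level. -/
theorem exists_tower (hodd : Odd (Fintype.card F)) :
    ∀ w : ℕ, ∃ S : Subgroup (GL (Fin (2 ^ (w + 1))) F), IsTower S ∧ (1 ≤ w → NormDet S) := by
  intro w
  induction w with
  | zero =>
    obtain ⟨S, hS⟩ := base (F := F) hodd
    exact ⟨S, hS, fun h => absurd h (by omega)⟩
  | succ w ih =>
    obtain ⟨S, hS, -⟩ := ih
    obtain ⟨h1, h2⟩ := hS.step hodd (Nat.succ_pos w) (by simp)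
    obtain ⟨T, hT1, hT2⟩ := transport (finSumFinEquiv.trans (finCongr (show 2 ^ (w + 1) + 2 ^ (w + 1) = 2 ^ (w + 1 + 1) by ring))) h1 h2
    exact ⟨T, hT1, fun _ => hT2⟩

end CfsgLib.PronormalPSL.Tower
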